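import Cfsg.Agent.H336.Co3.Base

/-!
# Symplectic frames of `N / Z(N)` and transitivity of `H` on them (helper336)
-/

set_option autoImplicit false

open Subgroup

namespace Cfsg.Agent.H336.Co3

/-- vectors of `F_2^4` -/
abbrev F4 := ZMod 2 × ZMod 2 × ZMod 2 × ZMod 2

/-- the symplectic form -/
def Om (x y : F4) : ZMod 2 :=
  x.1 * y.2.1 + x.2.1 * y.1 + (x.2.2.1 * y.2.2.2 + x.2.2.2 * y.2.2.1)

def allF : List F4 :=
  [(0,0,0,0),(0,0,0,1),(0,0,1,0),(0,0,1,1),(0,1,0,0),(0,1,0,1),(0,1,1,0),(0,1,1,1),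
   (1,0,0,0),(1,0,0,1),(1,0,1,0),(1,0,1,1),(1,1,0,0),(1,1,0,1),(1,1,1,0),(1,1,1,1)]

theorem mem_allF (x : F4) : x ∈ allF := by revert x; decide

def frames : List (F4 × F4 × F4 × F4) :=
  allF.flatMap fun x => (allF.filter fun y => decide (Om x y = 1)).flatMap fun y =>
    (allF.filter fun u => decide (Om x u = 0) && decide (Om y u = 0)).flatMap fun u =>
      (allF.filter fun v => decide (Om x v = 0) && decide (Om y v = 0) && decide (Om u v = 1)).map fun v =>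
        (x, y, u, v)

theorem frames_length : frames.length = 720 := by decide +kernel

theorem mem_frames {x y u v : F4} (h1 : Om x y = 1) (h2 : Om x u = 0) (h3 : Om y u = 0) (h4 : Om x v = 0)
    (h5 : Om y v = 0) (h6 : Om u v = 1) : (x, y, u, v) ∈ frames := by
  unfold frames
  simp only [List.mem_flatMap, List.mem_map, List.mem_filter, Bool.and_eq_true, decide_eq_true_eq]
  exact ⟨x, mem_allF x, y, ⟨mem_allF y, h1⟩, u, ⟨mem_allF u, h2, h3⟩, v, ⟨mem_allF v, ⟨h4, h5⟩, h6⟩, rfl⟩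

variable {H : Type*} [Group H]

/-- `e` to a bit. -/
def pw (e : H) (c : ZMod 2) : H := if c = 0 then 1 else e

theorem pw_zero (e : H) : pw e 0 = 1 := if_pos rfl

theorem pw_one (e : H) : pw e 1 = e := if_neg one_ne_zero

/-- A symplectic frame of `N / Z(N)`. -/
structure Fr (N : Subgroup H) (e1 g1 e2 g2 : H) : Prop where
  m1 : e1 ∈ N
  m2 : g1 ∈ N
  m3 : e2 ∈ N
  m4 : g2 ∈ N
  b11 : br e1 g1 = 1
  b22 : br e2 g2 = 1
  b12 : br e1 e2 = 0
  c12 : br e1 g2 = 0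
  c21 : br g1 e2 = 0
  d12 : br g1 g2 = 0

namespace Cf

variable {N : Subgroup H} {z s : H} {e1 g1 e2 g2 : H}

theorem brl (C : Cf N z s) {a b c : H} (ha : a ∈ N) (hb : b ∈ N) (hc : c ∈ N) :
    br (a * b) c = br a c + br b c :=
  br_mul_left C.z_cen C.z_sq C.z_ne (C.sg ha hc) (C.sg hb hc)

theorem brr (C : Cf N z s) {a b c : H} (ha : a ∈ N) (hb : b ∈ N) (hc : c ∈ N) :
    br a (b * c) = br a b + br a c :=
  br_mul_right C.z_cen C.z_sq C.z_ne (C.sg ha hb) (C.sg ha hc)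

theorem br_one (a : H) : br a 1 = 0 := br_eq_zero.2 (by simp)

theorem one_br (a : H) : br 1 a = 0 := br_eq_zero.2 (by simp)

theorem pwN {e : H} (he : e ∈ N) (c : ZMod 2) : pw e c ∈ N := by
  rcases bit_cases c with rfl | rfl
  · rw [pw_zero]; exact one_mem _
  · rw [pw_one]; exact he

theorem br_pw_left {e a : H} (c : ZMod 2) : br (pw e c) a = c * br e a := by
  rcases bit_cases c with rfl | rfl
  · rw [pw_zero, one_br, zero_mul]
  · rw [pw_one, one_mul]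

theorem br_pw_right {e a : H} (c : ZMod 2) : br a (pw e c) = c * br a e := by
  rw [br_symm, br_pw_left, br_symm e]

theorem br_zs_left (C : Cf N z s) {u a : H} (hu : u ∈ zpowers s) (ha : a ∈ N) : br u a = 0 := by
  rw [br_eq_zero]
  obtain ⟨k, rfl⟩ := mem_zpowers_iff.1 hu
  have : Commute s a := (C.s_cen a ha).symm
  exact (this.zpow_left k).eq

theorem br_zs_right (C : Cf N z s) {u a : H} (hu : u ∈ zpowers s) (ha : a ∈ N) : br a u = 0 := by
  rw [br_symm]; exact C.br_zs_left hu ha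

/-- the word with given coordinates -/
def wd (e1 g1 e2 g2 : H) (x : F4) : H := pw e1 x.1 * pw g1 x.2.1 * (pw e2 x.2.2.1 * pw g2 x.2.2.2)

/-- the coordinates -/
noncomputable def kap (e1 g1 e2 g2 : H) (n : H) : F4 := (br n g1, br n e1, br n g2, br n e2)

theorem wdN (f : Fr N e1 g1 e2 g2) (x : F4) : wd e1 g1 e2 g2 x ∈ N :=
  mul_mem (mul_mem (pwN f.m1 _) (pwN f.m2 _)) (mul_mem (pwN f.m3 _) (pwN f.m4 _))

theorem br_wd_left (C : Cf N z s) (f : Fr N e1 g1 e2 g2) (x : F4) {a : H} (ha : a ∈ N) :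
    br (wd e1 g1 e2 g2 x) a =
      x.1 * br e1 a + x.2.1 * br g1 a + (x.2.2.1 * br e2 a + x.2.2.2 * br g2 a) := by
  unfold wd
  rw [C.brl (mul_mem (pwN f.m1 _) (pwN f.m2 _)) (mul_mem (pwN f.m3 _) (pwN f.m4 _)) ha,
    C.brl (pwN f.m1 _) (pwN f.m2 _) ha, C.brl (pwN f.m3 _) (pwN f.m4 _) ha, br_pw_left, br_pw_left,
    br_pw_left, br_pw_left]

theorem kap_wd (C : Cf N z s) (f : Fr N e1 g1 e2 g2) (x : F4) : kap e1 g1 e2 g2 (wd e1 g1 e2 g2 x) = x := by
  obtain ⟨a, b, c, d⟩ := x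
  have b11' : br g1 e1 = 1 := by rw [br_symm]; exact f.b11
  have b22' : br g2 e2 = 1 := by rw [br_symm]; exact f.b22
  have b12' : br e2 e1 = 0 := by rw [br_symm]; exact f.b12
  have c12' : br g2 e1 = 0 := by rw [br_symm]; exact f.c12
  have c21' : br e2 g1 = 0 := by rw [br_symm]; exact f.c21
  have d12' : br g2 g1 = 0 := by rw [br_symm]; exact f.d12
  unfold kap
  rw [C.br_wd_left f _ f.m2, C.br_wd_left f _ f.m1, C.br_wd_left f _ f.m4, C.br_wd_left f _ f.m3]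
  simp only [f.b11, f.b22, f.b12, f.c12, f.c21, f.d12, b11', b22', b12', c12', c21', d12', br_self,
    mul_zero, mul_one, add_zero, zero_add]

theorem kap_zs_mul (C : Cf N z s) (f : Fr N e1 g1 e2 g2) {u n : H} (hu : u ∈ zpowers s) (hn : n ∈ N) :
    kap e1 g1 e2 g2 (u * n) = kap e1 g1 e2 g2 n := by
  unfold kap
  have hu' := C.zs_le hu
  rw [C.brl hu' hn f.m2, C.brl hu' hn f.m1, C.brl hu' hn f.m4, C.brl hu' hn f.m3,
    C.br_zs_left hu f.m2, C.br_zs_left hu f.m1, C.br_zs_left hu f.m4, C.br_zs_left hu f.m3]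
  simp only [zero_add]

theorem card_zs (C : Cf N z s) : Nat.card (zpowers s) = 4 := by
  rw [Nat.card_zpowers]
  have h4 : s ^ 4 = 1 := by
    have : s ^ 4 = (s * s) * (s * s) := by rw [← pow_two, ← pow_two, ← pow_mul]
    rw [this, C.s_sq, C.z_sq]
  have h2 : s ^ 2 ≠ 1 := by rw [pow_two, C.s_sq]; exact C.z_ne
  exact orderOf_eq_prime_pow (p := 2) (n := 1) (by simpa using h2) (by simpa using h4)

/-- every element of `N` is a word up to `⟨s⟩` -/
theorem cover [Finite H] (C : Cf N z s) (f : Fr N e1 g1 e2 g2) {n : H} (hn : n ∈ N) :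
    ∃ u ∈ zpowers s, n = u * wd e1 g1 e2 g2 (kap e1 g1 e2 g2 n) := by
  classical
  let Φ : ↥(zpowers s) × F4 → ↥N := fun p =>
    ⟨(p.1 : H) * wd e1 g1 e2 g2 p.2, mul_mem (C.zs_le p.1.2) (wdN f p.2)⟩
  have hinj : Function.Injective Φ := by
    rintro ⟨u, x⟩ ⟨v, y⟩ h
    have h1 : (u : H) * wd e1 g1 e2 g2 x = v * wd e1 g1 e2 g2 y := congrArg Subtype.val h
    have h2 : x = y := by
      have := congrArg (kap e1 g1 e2 g2) h1
      rwa [C.kap_zs_mul f u.2 (wdN f x), C.kap_zs_mul f v.2 (wdN f y), C.kap_wd f, C.kap_wd f] at this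
    subst h2
    have h3 : (u : H) = v := mul_right_cancel h1
    rw [Subtype.ext h3]
  have hcard : Nat.card (↥(zpowers s) × F4) = Nat.card ↥N := by
    rw [Nat.card_prod, C.card_zs, C.card]
    have : Nat.card F4 = 16 := by
      rw [Nat.card_eq_fintype_card]; rfl
    rw [this]
  have hbij := (Nat.bijective_iff_injective_and_card Φ).2 ⟨hinj, hcard⟩
  obtain ⟨⟨u, x⟩, hux⟩ := hbij.2 ⟨n, hn⟩
  have h1 : (u : H) * wd e1 g1 e2 g2 x = n := congrArg Subtype.val hux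
  refine ⟨u, u.2, ?_⟩
  have h2 : kap e1 g1 e2 g2 n = x := by
    rw [← h1, C.kap_zs_mul f u.2 (wdN f x), C.kap_wd f]
  rw [h2, h1]

theorem kap_eq_iff [Finite H] (C : Cf N z s) (f : Fr N e1 g1 e2 g2) {n m : H} (hn : n ∈ N) (hm : m ∈ N) :
    kap e1 g1 e2 g2 n = kap e1 g1 e2 g2 m ↔ n * m⁻¹ ∈ zpowers s := by
  constructor
  · intro h
    obtain ⟨u, hu, hu'⟩ := C.cover f hn
    obtain ⟨v, hv, hv'⟩ := C.cover f hm
    have : n * m⁻¹ = u * v⁻¹ := by
      rw [hu', hv', h]; group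
    rw [this]
    exact mul_mem hu (inv_mem hv)
  · intro h
    have : n = (n * m⁻¹) * m := by group
    rw [this, C.kap_zs_mul f h hm]

/-- the form in coordinates -/
theorem br_eq_Om [Finite H] (C : Cf N z s) (f : Fr N e1 g1 e2 g2) {n m : H} (hn : n ∈ N) (hm : m ∈ N) :
    br n m = Om (kap e1 g1 e2 g2 n) (kap e1 g1 e2 g2 m) := by
  obtain ⟨u, hu, hu'⟩ := C.cover f hn
  have h1 : br n m = br (wd e1 g1 e2 g2 (kap e1 g1 e2 g2 n)) m := by
    conv_lhs => rw [hu']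
    rw [C.brl (C.zs_le hu) (wdN f _) hm, C.br_zs_left hu hm, zero_add]
  rw [h1, C.br_wd_left f _ hm]
  unfold Om kap
  simp only
  rw [br_symm e1 m, br_symm g1 m, br_symm e2 m, br_symm g2 m]

theorem mem_zs_of_kap [Finite H] (C : Cf N z s) (f : Fr N e1 g1 e2 g2) {n : H} (hn : n ∈ N)
    (h1 : br n e1 = 0) (h2 : br n g1 = 0) (h3 : br n e2 = 0) (h4 : br n g2 = 0) : n ∈ zpowers s := by
  have := (C.kap_eq_iff f hn (one_mem N)).1 (by unfold kap; rw [h1, h2, h3, h4, one_br, one_br, one_br, one_br])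
  simpa using this

/-- If `h` acts trivially mod `⟨s⟩` on a frame then `h ∈ N`. -/
theorem mem_N_of_frame [Finite H] (C : Cf N z s) (f : Fr N e1 g1 e2 g2) {h : H}
    (h1 : h * e1 * h⁻¹ * e1⁻¹ ∈ zpowers s) (h2 : h * g1 * h⁻¹ * g1⁻¹ ∈ zpowers s)
    (h3 : h * e2 * h⁻¹ * e2⁻¹ ∈ zpowers s) (h4 : h * g2 * h⁻¹ * g2⁻¹ ∈ zpowers s) : h ∈ N := by
  have := C.zs_normal
  -- the set of `n` with `[h,n] ∈ ⟨s⟩` is a subgroup
  let π := QuotientGroup.mk' (zpowers s)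
  have key : ∀ n : H, h * n * h⁻¹ * n⁻¹ ∈ zpowers s ↔ π h * π n = π n * π h := by
    intro n
    have e1 : h * n * h⁻¹ * n⁻¹ ∈ zpowers s ↔ π (h * n * h⁻¹ * n⁻¹) = 1 :=
      (QuotientGroup.eq_one_iff (N := zpowers s) _).symm
    rw [e1, map_mul, map_mul, map_mul, map_inv, map_inv, mul_inv_eq_one, mul_inv_eq_iff_eq_mul]
  have kp : ∀ (e : H) (c : ZMod 2), π h * π e = π e * π h → π h * π (pw e c) = π (pw e c) * π h := by
    intro e c he
    rcases bit_cases c with rfl | rfl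
    · rw [pw_zero, map_one, mul_one, one_mul]
    · rw [pw_one, he]
  refine C.faith h fun n hn => ?_
  obtain ⟨u, hu, hu'⟩ := C.cover f hn
  rw [key, hu', map_mul]
  have hu1 : π u = 1 := (QuotientGroup.eq_one_iff u).2 hu
  rw [hu1, one_mul]
  have k1 : Commute (π h) (π (pw e1 (kap e1 g1 e2 g2 n).1)) := kp _ _ ((key e1).1 h1)
  have k2 : Commute (π h) (π (pw g1 (kap e1 g1 e2 g2 n).2.1)) := kp _ _ ((key g1).1 h2)
  have k3 : Commute (π h) (π (pw e2 (kap e1 g1 e2 g2 n).2.2.1)) := kp _ _ ((key e2).1 h3)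
  have k4 : Commute (π h) (π (pw g2 (kap e1 g1 e2 g2 n).2.2.2)) := kp _ _ ((key g2).1 h4)
  have := (k1.mul_right k2).mul_right (k3.mul_right k4)
  rw [← map_mul, ← map_mul, ← map_mul] at this
  exact this

/-- **Transitivity on frames.** -/
theorem exists_frame [Finite H] (C : Cf N z s) (f : Fr N e1 g1 e2 g2) {x1 y1 x2 y2 : H}
    (f' : Fr N x1 y1 x2 y2) :
    ∃ h : H, h * e1 * h⁻¹ * x1⁻¹ ∈ zpowers s ∧ h * g1 * h⁻¹ * y1⁻¹ ∈ zpowers s ∧
      h * e2 * h⁻¹ * x2⁻¹ ∈ zpowers s ∧ h * g2 * h⁻¹ * y2⁻¹ ∈ zpowers s := by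
  classical
  have := C.normal
  letI : Fintype (H ⧸ N) := Fintype.ofFinite _
  let κ := kap e1 g1 e2 g2
  let Φ : H ⧸ N → F4 × F4 × F4 × F4 := fun q =>
    (κ (q.out * e1 * q.out⁻¹), κ (q.out * g1 * q.out⁻¹), κ (q.out * e2 * q.out⁻¹), κ (q.out * g2 * q.out⁻¹))
  have hcard : Fintype.card (H ⧸ N) = 720 := by
    obtain ⟨ι⟩ := C.iso
    rw [Fintype.card_congr ι.toEquiv, Fintype.card_perm, Fintype.card_fin]
    rfl
  have hmem : ∀ q, Φ q ∈ frames := by
    intro q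
    have hb : ∀ a b : H, a ∈ N → b ∈ N → Om (κ (q.out * a * q.out⁻¹)) (κ (q.out * b * q.out⁻¹)) = br a b := by
      intro a b ha hb
      rw [← C.br_eq_Om f (C.conjN _ ha) (C.conjN _ hb), br_conj]
    refine mem_frames ?_ ?_ ?_ ?_ ?_ ?_
    · rw [hb _ _ f.m1 f.m2]; exact f.b11
    · rw [hb _ _ f.m1 f.m3]; exact f.b12
    · rw [hb _ _ f.m2 f.m3]; exact f.c21
    · rw [hb _ _ f.m1 f.m4]; exact f.c12
    · rw [hb _ _ f.m2 f.m4]; exact f.d12
    · rw [hb _ _ f.m3 f.m4]; exact f.b22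
  have hinj : Function.Injective Φ := by
    intro q q' h
    have h1 := congrArg Prod.fst h
    have h2 := congrArg (fun p => p.2.1) h
    have h3 := congrArg (fun p => p.2.2.1) h
    have h4 := congrArg (fun p => p.2.2.2) h
    have key : ∀ a ∈ N, κ (q.out * a * q.out⁻¹) = κ (q'.out * a * q'.out⁻¹) →
        (q'.out⁻¹ * q.out) * a * (q'.out⁻¹ * q.out)⁻¹ * a⁻¹ ∈ zpowers s := by
      intro a ha hh
      have := (C.kap_eq_iff f (C.conjN _ ha) (C.conjN _ ha)).1 hh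
      have h5 := C.zs_normal.conj_mem _ this q'.out⁻¹
      have e : q'.out⁻¹ * (q.out * a * q.out⁻¹ * (q'.out * a * q'.out⁻¹)⁻¹) * q'.out⁻¹⁻¹ =
          (q'.out⁻¹ * q.out) * a * (q'.out⁻¹ * q.out)⁻¹ * a⁻¹ := by group
      rwa [e] at h5
    have h6 : q'.out⁻¹ * q.out ∈ N :=
      C.mem_N_of_frame f (key _ f.m1 h1) (key _ f.m2 h2) (key _ f.m3 h3) (key _ f.m4 h4)
    have h7 : (q'.out : H ⧸ N) = (q.out : H ⧸ N) := QuotientGroup.eq.2 h6
    rw [QuotientGroup.out_eq', QuotientGroup.out_eq'] at h7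
    exact h7.symm
  have hsub : (Finset.univ.image Φ) ⊆ frames.toFinset := by
    intro p hp
    obtain ⟨q, -, rfl⟩ := Finset.mem_image.1 hp
    exact List.mem_toFinset.2 (hmem q)
  have hle : frames.toFinset.card ≤ (Finset.univ.image Φ).card := by
    rw [Finset.card_image_of_injective _ hinj, Finset.card_univ, hcard]
    exact (List.toFinset_card_le _).trans frames_length.le
  have heq := Finset.eq_of_subset_of_card_le hsub hle
  have hx : (κ x1, κ y1, κ x2, κ y2) ∈ frames.toFinset := by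
    rw [List.mem_toFinset]
    refine mem_frames ?_ ?_ ?_ ?_ ?_ ?_
    · rw [← C.br_eq_Om f f'.m1 f'.m2]; exact f'.b11
    · rw [← C.br_eq_Om f f'.m1 f'.m3]; exact f'.b12
    · rw [← C.br_eq_Om f f'.m2 f'.m3]; exact f'.c21
    · rw [← C.br_eq_Om f f'.m1 f'.m4]; exact f'.c12
    · rw [← C.br_eq_Om f f'.m2 f'.m4]; exact f'.d12
    · rw [← C.br_eq_Om f f'.m3 f'.m4]; exact f'.b22
  rw [← heq] at hx
  obtain ⟨q, -, hq⟩ := Finset.mem_image.1 hx
  have h1 := congrArg Prod.fst hq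
  have h2 := congrArg (fun p => p.2.1) hq
  have h3 := congrArg (fun p => p.2.2.1) hq
  have h4 := congrArg (fun p => p.2.2.2) hq
  exact ⟨q.out, (C.kap_eq_iff f (C.conjN _ f.m1) f'.m1).1 h1, (C.kap_eq_iff f (C.conjN _ f.m2) f'.m2).1 h2,
    (C.kap_eq_iff f (C.conjN _ f.m3) f'.m3).1 h3, (C.kap_eq_iff f (C.conjN _ f.m4) f'.m4).1 h4⟩

end Cf

end Cfsg.Agent.H336.Co3
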