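import Cfsg.Agent.H336.Co3.Frame

/-!
# The group `J` (preimage of `2^6` in `2^5.S₆`) (helper336)
-/

set_option autoImplicit false

open Subgroup

namespace Cfsg.Agent.H336.Co3

variable {H : Type*} [Group H]

/-- three commuting elements of `N` of square `z` with product `s`, completed to a frame -/
structure Tri (N : Subgroup H) (z s : H) (e : Fin 3 → H) (g1 g2 : H) : Prop where
  fr : Fr N (e 0) g1 (e 1) g2
  m : ∀ k, e k ∈ N
  sq : ∀ k, e k * e k = z
  prod : e 0 * e 1 * e 2 = s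

/-- the product with given exponents -/
def P3 (e : Fin 3 → H) (c : Fin 3 → ZMod 2) : H := pw (e 0) (c 0) * pw (e 1) (c 1) * pw (e 2) (c 2)

/-- membership in `J` -/
def JJ (N : Subgroup H) (z : H) (e : Fin 3 → H) (t : H) : Prop :=
  (∀ k, Sg z t (e k)) ∧
    ∀ x ∈ N, ∃ c : ZMod 2, t * x * t⁻¹ = zp z c * P3 e (fun k => br t (e k) * br x (e k)) * x

namespace Cf

variable {N : Subgroup H} {z s : H} {e : Fin 3 → H} {g1 g2 : H}

theorem zpc (C : Cf N z s) (c : ZMod 2) (h : H) : h * zp z c = zp z c * h := zp_comm C.z_cen c h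

theorem zpa (C : Cf N z s) (c d : ZMod 2) : zp z c * zp z d = zp z (c + d) := (zp_add C.z_sq c d).symm

theorem zpN (C : Cf N z s) (c : ZMod 2) : zp z c ∈ N := by
  rcases bit_cases c with rfl | rfl
  · rw [zp_zero]; exact one_mem _
  · rw [zp_one]; exact C.zN

theorem zp_zs (C : Cf N z s) (c : ZMod 2) : zp z c ∈ zpowers s := by
  rcases bit_cases c with rfl | rfl
  · rw [zp_zero]; exact one_mem _
  · rw [zp_one]; exact C.z_mem_zs

theorem br_zp (C : Cf N z s) (c : ZMod 2) (h : H) : br (zp z c) h = 0 := br_eq_zero.2 (C.zpc c h).symm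

theorem sg_zp (C : Cf N z s) (c : ZMod 2) (h : H) : Sg z h (zp z c) := Or.inl (C.zpc c h)

theorem sg_zp_mul (C : Cf N z s) {a b : H} (c : ZMod 2) (h : Sg z a b) : Sg z a (zp z c * b) :=
  (C.sg_zp c a).mul_right C.z_cen C.z_sq h

theorem br_zp_mul (C : Cf N z s) {a b : H} (c : ZMod 2) (h : Sg z a b) : br a (zp z c * b) = br a b := by
  rw [br_mul_right C.z_cen C.z_sq C.z_ne (C.sg_zp c a) h, br_symm, C.br_zp, zero_add]

theorem br_zp_mul_left (C : Cf N z s) {a b : H} (c : ZMod 2) (h : Sg z a b) : br (zp z c * a) b = br a b := by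
  rw [br_symm, C.br_zp_mul c (h.symm C.z_sq), br_symm]

theorem br_s (C : Cf N z s) {n : H} (hn : n ∈ N) : br n s = 0 := br_eq_zero.2 (C.s_cen n hn)

/-! ### the elements `e k` -/

theorem e2_eq (_ : Cf N z s) (E : Tri N z s e g1 g2) : e 2 = (e 0 * e 1)⁻¹ * s := by
  rw [← E.prod]; group

theorem ecomm (C : Cf N z s) (E : Tri N z s e g1 g2) (i j : Fin 3) : Commute (e i) (e j) := by
  have h01 : Commute (e 0) (e 1) := br_eq_zero.1 E.fr.b12
  have hs : ∀ k, Commute (e k) s := fun k => C.s_cen _ (E.m k)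
  have h02 : Commute (e 0) (e 2) := by
    rw [C.e2_eq E]
    exact (((Commute.refl _).mul_right h01).inv_right).mul_right (hs 0)
  have h12 : Commute (e 1) (e 2) := by
    rw [C.e2_eq E]
    exact ((h01.symm.mul_right (Commute.refl _)).inv_right).mul_right (hs 1)
  fin_cases i <;> fin_cases j
  · exact Commute.refl _
  · exact h01
  · exact h02
  · exact h01.symm
  · exact Commute.refl _
  · exact h12
  · exact h02.symm
  · exact h12.symm
  · exact Commute.refl _

theorem bree (C : Cf N z s) (E : Tri N z s e g1 g2) (i j : Fin 3) : br (e i) (e j) = 0 :=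
  br_eq_zero.2 (C.ecomm E i j)

/-- sum rule -/
theorem sum_br (C : Cf N z s) (E : Tri N z s e g1 g2) {t : H} (ht : ∀ k, Sg z t (e k)) :
    br t (e 0) + br t (e 1) + br t (e 2) = br t s := by
  rw [← E.prod, br_mul_right C.z_cen C.z_sq C.z_ne ((ht 0).mul_right C.z_cen C.z_sq (ht 1)) (ht 2),
    br_mul_right C.z_cen C.z_sq C.z_ne (ht 0) (ht 1)]

theorem sum_brN (C : Cf N z s) (E : Tri N z s e g1 g2) {n : H} (hn : n ∈ N) :
    br n (e 0) + br n (e 1) + br n (e 2) = 0 := by
  rw [C.sum_br E (fun k => C.sg hn (E.m k)), C.br_s hn]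

theorem brg10 (_ : Cf N z s) (E : Tri N z s e g1 g2) : br g1 (e 0) = 1 := by rw [br_symm]; exact E.fr.b11
theorem brg11 (_ : Cf N z s) (E : Tri N z s e g1 g2) : br g1 (e 1) = 0 := E.fr.c21
theorem brg12 (C : Cf N z s) (E : Tri N z s e g1 g2) : br g1 (e 2) = 1 := by
  have h := C.sum_brN E E.fr.m2
  rw [C.brg10 E, C.brg11 E] at h
  revert h; generalize br g1 (e 2) = x; revert x; decide
theorem brg20 (_ : Cf N z s) (E : Tri N z s e g1 g2) : br g2 (e 0) = 0 := by rw [br_symm]; exact E.fr.c12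
theorem brg21 (_ : Cf N z s) (E : Tri N z s e g1 g2) : br g2 (e 1) = 1 := by rw [br_symm]; exact E.fr.b22
theorem brg22 (C : Cf N z s) (E : Tri N z s e g1 g2) : br g2 (e 2) = 1 := by
  have h := C.sum_brN E E.fr.m4
  rw [C.brg20 E, C.brg21 E] at h
  revert h; generalize br g2 (e 2) = x; revert x; decide

/-! ### products -/

theorem pw_mul (_ : Cf N z s) {a : H} (ha : a * a = z) (c d : ZMod 2) :
    pw a c * pw a d = zp z (c * d) * pw a (c + d) := by
  rcases bit_cases c with rfl | rfl <;> rcases bit_cases d with rfl | rfl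
  · simp [pw_zero, zp_zero]
  · simp [pw_zero, pw_one, zp_zero]
  · simp [pw_zero, pw_one, zp_zero]
  · rw [pw_one, ha, mul_one, zp_one, show (1 + 1 : ZMod 2) = 0 from rfl, pw_zero, mul_one]

theorem pw_comm {a b : H} (h : Commute a b) (c d : ZMod 2) : Commute (pw a c) (pw b d) := by
  rcases bit_cases c with rfl | rfl <;> rcases bit_cases d with rfl | rfl
  · rw [pw_zero]; exact Commute.one_left _
  · rw [pw_zero]; exact Commute.one_left _
  · rw [pw_zero b]; exact Commute.one_right _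
  · rw [pw_one, pw_one]; exact h

theorem P3N (_ : Cf N z s) (E : Tri N z s e g1 g2) (c : Fin 3 → ZMod 2) : P3 e c ∈ N :=
  mul_mem (mul_mem (pwN (E.m 0) _) (pwN (E.m 1) _)) (pwN (E.m 2) _)

theorem P3_mul (C : Cf N z s) (E : Tri N z s e g1 g2) (a b : Fin 3 → ZMod 2) :
    P3 e a * P3 e b = zp z (a 0 * b 0 + a 1 * b 1 + a 2 * b 2) * P3 e (fun k => a k + b k) := by
  have h01 := pw_comm (C.ecomm E 1 0) (a 1) (b 0)
  have h02 := pw_comm (C.ecomm E 2 0) (a 2) (b 0)
  have h12 := pw_comm (C.ecomm E 2 1) (a 2) (b 1)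
  unfold P3
  calc pw (e 0) (a 0) * pw (e 1) (a 1) * pw (e 2) (a 2) * (pw (e 0) (b 0) * pw (e 1) (b 1) * pw (e 2) (b 2))
      = (pw (e 0) (a 0) * pw (e 1) (a 1) * (pw (e 0) (b 0) * pw (e 1) (b 1))) *
          (pw (e 2) (a 2) * pw (e 2) (b 2)) := by
        have h := h02.mul_right h12
        calc _ = pw (e 0) (a 0) * pw (e 1) (a 1) * (pw (e 2) (a 2) * (pw (e 0) (b 0) * pw (e 1) (b 1))) *
              pw (e 2) (b 2) := by group
          _ = pw (e 0) (a 0) * pw (e 1) (a 1) * ((pw (e 0) (b 0) * pw (e 1) (b 1)) * pw (e 2) (a 2)) *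
              pw (e 2) (b 2) := by rw [h.eq]
          _ = _ := by group
    _ = (pw (e 0) (a 0) * pw (e 0) (b 0)) * (pw (e 1) (a 1) * pw (e 1) (b 1)) *
          (pw (e 2) (a 2) * pw (e 2) (b 2)) := by
        congr 1
        calc _ = pw (e 0) (a 0) * (pw (e 1) (a 1) * pw (e 0) (b 0)) * pw (e 1) (b 1) := by group
          _ = pw (e 0) (a 0) * (pw (e 0) (b 0) * pw (e 1) (a 1)) * pw (e 1) (b 1) := by rw [h01.eq]
          _ = _ := by group
    _ = zp z (a 0 * b 0 + a 1 * b 1 + a 2 * b 2) *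
          (pw (e 0) (a 0 + b 0) * pw (e 1) (a 1 + b 1) * pw (e 2) (a 2 + b 2)) := by
        rw [C.pw_mul (E.sq 0), C.pw_mul (E.sq 1), C.pw_mul (E.sq 2), ← C.zpa, ← C.zpa]
        generalize pw (e 0) (a 0 + b 0) = X
        generalize pw (e 1) (a 1 + b 1) = Y
        generalize pw (e 2) (a 2 + b 2) = Z
        calc zp z (a 0 * b 0) * X * (zp z (a 1 * b 1) * Y) * (zp z (a 2 * b 2) * Z)
            = zp z (a 0 * b 0) * (X * zp z (a 1 * b 1)) * (Y * zp z (a 2 * b 2)) * Z := by group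
          _ = zp z (a 0 * b 0) * (zp z (a 1 * b 1) * X) * (zp z (a 2 * b 2) * Y) * Z := by
              rw [C.zpc _ X, C.zpc _ Y]
          _ = zp z (a 0 * b 0) * zp z (a 1 * b 1) * (X * zp z (a 2 * b 2)) * Y * Z := by group
          _ = zp z (a 0 * b 0) * zp z (a 1 * b 1) * (zp z (a 2 * b 2) * X) * Y * Z := by rw [C.zpc _ X]
          _ = _ := by group

theorem P3_sq (C : Cf N z s) (E : Tri N z s e g1 g2) (a : Fin 3 → ZMod 2) :
    P3 e a * P3 e a = zp z (a 0 + a 1 + a 2) := by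
  rw [C.P3_mul E]
  have h : ∀ x : ZMod 2, x * x = x := by decide
  have h2 : ∀ x : ZMod 2, x + x = 0 := by decide
  rw [h, h, h]
  have : P3 e (fun k => a k + a k) = 1 := by
    unfold P3
    simp only [h2, pw_zero, mul_one]
  rw [this, mul_one]

theorem sg_P3 (C : Cf N z s) {t : H} (ht : ∀ k, Sg z t (e k)) (a : Fin 3 → ZMod 2) : Sg z t (P3 e a) := by
  have h : ∀ k c, Sg z t (pw (e k) c) := by
    intro k c
    rcases bit_cases c with rfl | rfl
    · rw [pw_zero]; left; simp
    · rw [pw_one]; exact ht k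
  exact ((h 0 _).mul_right C.z_cen C.z_sq (h 1 _)).mul_right C.z_cen C.z_sq (h 2 _)

theorem br_P3 (C : Cf N z s) {t : H} (ht : ∀ k, Sg z t (e k)) (a : Fin 3 → ZMod 2) :
    br t (P3 e a) = a 0 * br t (e 0) + a 1 * br t (e 1) + a 2 * br t (e 2) := by
  have h : ∀ k c, Sg z t (pw (e k) c) := by
    intro k c
    rcases bit_cases c with rfl | rfl
    · rw [pw_zero]; left; simp
    · rw [pw_one]; exact ht k
  unfold P3
  rw [br_mul_right C.z_cen C.z_sq C.z_ne ((h 0 _).mul_right C.z_cen C.z_sq (h 1 _)) (h 2 _),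
    br_mul_right C.z_cen C.z_sq C.z_ne (h 0 _) (h 1 _), br_pw_right, br_pw_right, br_pw_right]

theorem conj_P3 (C : Cf N z s) {t : H} (ht : ∀ k, Sg z t (e k)) (a : Fin 3 → ZMod 2) :
    t * P3 e a * t⁻¹ = zp z (a 0 * br t (e 0) + a 1 * br t (e 1) + a 2 * br t (e 2)) * P3 e a := by
  rw [(C.sg_P3 ht a).conj_eq C.z_ne, C.br_P3 ht]

theorem P3_zero : P3 e (fun _ => 0) = 1 := by
  unfold P3; simp [pw_zero]

/-- independence of the `e k` modulo `z` -/
theorem P3_ind (C : Cf N z s) (E : Tri N z s e g1 g2) {a : Fin 3 → ZMod 2} {c : ZMod 2}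
    (h : P3 e a = zp z c) : ∀ k, a k = 0 := by
  have hg1 : br g1 (P3 e a) = a 0 + a 2 := by
    rw [C.br_P3 (fun k => C.sg E.fr.m2 (E.m k)), C.brg10 E, C.brg11 E, C.brg12 E]; ring
  have hg2 : br g2 (P3 e a) = a 1 + a 2 := by
    rw [C.br_P3 (fun k => C.sg E.fr.m4 (E.m k)), C.brg20 E, C.brg21 E, C.brg22 E]; ring
  have hsq := C.P3_sq E a
  rw [h, br_symm, C.br_zp] at hg1 hg2
  rw [h, C.zpa] at hsq
  have h0' : ∀ c : ZMod 2, c + c = 0 := by decide
  have h0 := h0' c
  rw [h0, zp_zero] at hsq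
  have h3 := (zp_eq_one C.z_ne).1 hsq.symm
  have : a 0 = 0 ∧ a 1 = 0 ∧ a 2 = 0 := by
    revert hg1 hg2 h3
    generalize a 0 = x; generalize a 1 = y; generalize a 2 = w
    revert x y w; decide
  intro k; fin_cases k
  · exact this.1
  · exact this.2.1
  · exact this.2.2

/-! ### `J` is closed under products; squares of `J` -/

theorem J_mul (C : Cf N z s) (E : Tri N z s e g1 g2) {t t' : H} (ht : JJ N z e t) (ht' : JJ N z e t') :
    JJ N z e (t * t') := by
  refine ⟨fun k => (ht.1 k).mul_left C.z_cen C.z_sq (ht'.1 k), fun x hx => ?_⟩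
  obtain ⟨c, hc⟩ := ht.2 x hx
  obtain ⟨c', hc'⟩ := ht'.2 x hx
  have hb : ∀ k, br (t * t') (e k) * br x (e k) = br t' (e k) * br x (e k) + br t (e k) * br x (e k) := by
    intro k
    rw [br_mul_left C.z_cen C.z_sq C.z_ne (ht.1 k) (ht'.1 k)]; ring
  have e1 : (fun k => br (t * t') (e k) * br x (e k)) =
      fun k => (fun k => br t' (e k) * br x (e k)) k + (fun k => br t (e k) * br x (e k)) k := funext hb
  rw [e1]
  have h2 := C.P3_mul E (fun k => br t' (e k) * br x (e k)) (fun k => br t (e k) * br x (e k))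
  set A := P3 e (fun k => br t' (e k) * br x (e k)) with hA
  set B := P3 e (fun k => br t (e k) * br x (e k)) with hB
  set A' := P3 e (fun k => (fun k => br t' (e k) * br x (e k)) k + (fun k => br t (e k) * br x (e k)) k) with hA'
  obtain ⟨d, hd⟩ : ∃ d, A * B = zp z d * A' := ⟨_, h2⟩
  obtain ⟨d', hd'⟩ : ∃ d', t * A * t⁻¹ = zp z d' * A := ⟨_, C.conj_P3 ht.1 _⟩
  refine ⟨c' + d' + c + d, ?_⟩
  calc t * t' * x * (t * t')⁻¹ = t * (t' * x * t'⁻¹) * t⁻¹ := by group
    _ = t * (zp z c' * A * x) * t⁻¹ := by rw [hc']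
    _ = (t * zp z c') * A * t⁻¹ * (t * x * t⁻¹) := by group
    _ = zp z c' * (t * A * t⁻¹) * (t * x * t⁻¹) := by rw [C.zpc c' t]; group
    _ = zp z c' * (zp z d' * A) * (zp z c * B * x) := by rw [hd', hc]
    _ = zp z c' * zp z d' * (A * zp z c) * B * x := by group
    _ = zp z c' * zp z d' * (zp z c * A) * B * x := by rw [C.zpc c A]
    _ = zp z c' * zp z d' * zp z c * (A * B) * x := by group
    _ = zp z c' * zp z d' * zp z c * (zp z d * A') * x := by rw [hd]
    _ = zp z (c' + d' + c + d) * A' * x := by rw [← C.zpa, ← C.zpa, ← C.zpa]; group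

theorem J_sq (C : Cf N z s) (E : Tri N z s e g1 g2) {t : H} (ht : JJ N z e t) : t * t ∈ zpowers s := by
  have hcent : ∀ x ∈ N, t * t * x * (t * t)⁻¹ = x := by
    intro x hx
    obtain ⟨c, hc⟩ := ht.2 x hx
    have h1 := C.conj_P3 ht.1 (fun k => br t (e k) * br x (e k))
    have h2 := C.P3_sq E (fun k => br t (e k) * br x (e k))
    set A := P3 e (fun k => br t (e k) * br x (e k)) with hA
    have hb : ∀ x y : ZMod 2, x * y * x = x * y := by decide
    simp only [hb] at h1
    set q := br t (e 0) * br x (e 0) + br t (e 1) * br x (e 1) + br t (e 2) * br x (e 2) with hq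
    calc t * t * x * (t * t)⁻¹ = t * (t * x * t⁻¹) * t⁻¹ := by group
      _ = t * (zp z c * A * x) * t⁻¹ := by rw [hc]
      _ = (t * zp z c) * A * t⁻¹ * (t * x * t⁻¹) := by group
      _ = zp z c * (t * A * t⁻¹) * (t * x * t⁻¹) := by rw [C.zpc c t]; group
      _ = zp z c * (zp z q * A) * (zp z c * A * x) := by rw [h1, hc]
      _ = zp z c * zp z q * (A * zp z c) * A * x := by group
      _ = zp z c * zp z q * (zp z c * A) * A * x := by rw [C.zpc c A]
      _ = zp z c * zp z q * zp z c * (A * A) * x := by group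
      _ = zp z (c + q + c + q) * x := by
          rw [h2, C.zpa, C.zpa, C.zpa]
      _ = x := by
          have : c + q + c + q = 0 := by
            have h : ∀ c q : ZMod 2, c + q + c + q = 0 := by decide
            exact h c q
          rw [this, zp_zero, one_mul]
  have hN : t * t ∈ N := C.faith _ fun n hn => by rw [hcent n hn, mul_inv_cancel]; exact one_mem _
  refine C.cen _ hN fun m hm => ?_
  have := hcent m hm
  rwa [mul_inv_eq_iff_eq_mul] at this

theorem J_sq_odd (C : Cf N z s) (E : Tri N z s e g1 g2) {t : H} (ht : JJ N z e t) (h1 : br t s = 1) :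
    t * t = 1 ∨ t * t = z := by
  have hne : t * s ≠ s * t := br_ne_zero.1 h1
  rcases C.mem_zs.1 (C.J_sq E ht) with h | h | h | h
  · exact Or.inl h
  · exfalso; apply hne; rw [← h, mul_assoc]
  · exact Or.inr h
  · exfalso; apply hne
    have h3 : t * (z * s) = z * s * t := by rw [← h, mul_assoc]
    have h4 : z * (t * s) = z * (s * t) := by
      calc z * (t * s) = (z * t) * s := by group
        _ = t * (z * s) := by rw [← C.z_cen t]; group
        _ = z * (s * t) := by rw [h3]; group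
    exact mul_left_cancel h4

/-- elements of `J` centralising the `e k` lie in `N` -/
theorem J_zero (C : Cf N z s) {t : H} (ht : JJ N z e t) (h0 : ∀ k, br t (e k) = 0) : t ∈ N := by
  refine C.faith _ fun n hn => ?_
  obtain ⟨c, hc⟩ := ht.2 n hn
  have : (fun k => br t (e k) * br n (e k)) = fun _ => 0 := by
    funext k; rw [h0, zero_mul]
  rw [this, P3_zero, mul_one] at hc
  rw [hc, mul_inv_cancel_right]
  exact C.zp_zs c

theorem N_J (C : Cf N z s) (E : Tri N z s e g1 g2) {n : H} (hn : n ∈ N) (h0 : ∀ k, br n (e k) = 0) :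
    JJ N z e n := by
  refine ⟨fun k => C.sg hn (E.m k), fun x hx => ⟨br n x, ?_⟩⟩
  have : (fun k => br n (e k) * br x (e k)) = fun _ => 0 := by
    funext k; rw [h0, zero_mul]
  rw [this, P3_zero, mul_one]
  exact (C.sg hn hx).conj_eq C.z_ne

end Cf

end Cfsg.Agent.H336.Co3
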