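import Cfsg.Agent.H336.Co3.Uniq
import Cfsg.Agent.Lib.NormalAbelian

/-!
# `N` is characteristic in a Sylow 2-subgroup of `H` (helper336)
-/

set_option autoImplicit false

open Subgroup

namespace Cfsg.Agent.H336.Co3

/-- a normal section of a 2-group contains a central element of order 2 -/
theorem exists_fix {P : Type*} [Group P] [Finite P] (hP : IsPGroup 2 P) (K M : Subgroup P) [hK : K.Normal]
    [hM : M.Normal] (h : K < M) : ∃ m ∈ M, m ∉ K ∧ ∀ t : P, t * m * t⁻¹ * m⁻¹ ∈ K := by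
  have : Fact (Nat.Prime 2) := ⟨Nat.prime_two⟩
  have hQ : IsPGroup 2 (P ⧸ K) := hP.to_quotient K
  have : Group.IsNilpotent (P ⧸ K) := hQ.isNilpotent
  have hMn : (M.map (QuotientGroup.mk' K)).Normal := hM.map _ (QuotientGroup.mk'_surjective K)
  have hne : M.map (QuotientGroup.mk' K) ≠ ⊥ := by
    intro hb
    rw [Subgroup.map_eq_bot_iff, QuotientGroup.ker_mk'] at hb
    exact absurd (lt_of_lt_of_le h hb) (lt_irrefl _)
  have h1 := Lib.NormalAbelian.normal_inf_center_ne_bot (M.map (QuotientGroup.mk' K)) hne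
  obtain ⟨⟨x, hx⟩, hx0⟩ := (Subgroup.ne_bot_iff_exists_ne_one).1 h1
  have hx1 : x ≠ 1 := fun h => hx0 (Subtype.ext h)
  obtain ⟨hxM, hxc⟩ := hx
  obtain ⟨m, hm, hmx⟩ := hxM
  refine ⟨m, hm, ?_, fun t => ?_⟩
  · intro hmK
    apply hx1
    rw [← hmx]
    exact (QuotientGroup.eq_one_iff (N := K) m).2 hmK
  · have h2 := Subgroup.mem_center_iff.1 hxc (QuotientGroup.mk' K t)
    rw [← hmx] at h2
    have h3 : QuotientGroup.mk' K (t * m * t⁻¹ * m⁻¹) = 1 := by
      simp only [map_mul, map_inv]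
      rw [h2]; group
    exact (QuotientGroup.eq_one_iff (N := K) _).1 h3

theorem F4_dual_aux : (allF.all fun β => (!(decide (Om (1, 0, 0, 0) β = 0)) || decide (β = (0, 0, 0, 0)) ||
    decide (β = (1, 0, 0, 0)) || allF.any fun γ => allF.any fun δ => decide (Om (1, 0, 0, 0) γ = 1) &&
      decide (Om β γ = 0) && decide (Om (1, 0, 0, 0) δ = 0) && decide (Om β δ = 1) &&
        decide (Om γ δ = 0))) = true := by
  decide +kernel

theorem F4_dual (β : F4) (h1 : Om (1, 0, 0, 0) β = 0) (h2 : β ≠ (0, 0, 0, 0)) (h3 : β ≠ (1, 0, 0, 0)) :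
    ∃ γ δ : F4, Om (1, 0, 0, 0) γ = 1 ∧ Om β γ = 0 ∧ Om (1, 0, 0, 0) δ = 0 ∧ Om β δ = 1 ∧ Om γ δ = 0 := by
  have h := (List.all_eq_true.1 F4_dual_aux) β (mem_allF β)
  simp only [h1, h2, h3, decide_true, decide_false, Bool.not_true, Bool.false_or, List.any_eq_true,
    Bool.and_eq_true, decide_eq_true_eq] at h
  obtain ⟨γ, -, δ, -, ⟨⟨⟨a, b⟩, c⟩, d⟩, e⟩ := h
  exact ⟨γ, δ, a, b, c, d, e⟩

variable {H : Type*} [Group H]

namespace Cf

variable {N : Subgroup H} {z s : H}

/-- complete an element to a frame -/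
theorem fr0 [Finite H] (C : Cf N z s) {a : H} (ha : a ∈ N) (ha' : a ∉ zpowers s) :
    ∃ g x y, Fr N a g x y := by
  classical
  -- `g` not commuting with `a`
  obtain ⟨g, hg, hag⟩ : ∃ g ∈ N, br a g = 1 := by
    by_contra hcon
    push Not at hcon
    apply ha'
    refine C.cen a ha fun m hm => ?_
    rcases bit_cases (br a m) with h | h
    · exact br_eq_zero.1 h
    · exact absurd h (hcon m hm)
  -- `x` commuting with both, outside `⟨s⟩`
  obtain ⟨x, hx, hxs, hxa, hxg⟩ : ∃ x ∈ N, x ∉ zpowers s ∧ br x a = 0 ∧ br x g = 0 := by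
    by_contra hcon
    push Not at hcon
    let φ : ↥N →* Multiplicative (ZMod 2 × ZMod 2) :=
      { toFun := fun n => Multiplicative.ofAdd (br (n : H) a, br (n : H) g)
        map_one' := by
          show Multiplicative.ofAdd (br (1 : H) a, br (1 : H) g) = 1
          rw [one_br, one_br]; rfl
        map_mul' := fun n m => by
          show Multiplicative.ofAdd (br ((n : H) * m) a, br ((n : H) * m) g) = _
          rw [C.brl n.2 m.2 ha, C.brl n.2 m.2 hg]; rfl }
    have hk : Nat.card φ.ker ≤ 4 := by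
      have hle : φ.ker.map N.subtype ≤ zpowers s := by
        rintro _ ⟨n, hn, rfl⟩
        by_contra hns
        have h1 : φ n = 1 := hn
        have h2 : (br (n : H) a, br (n : H) g) = (0, 0) := h1
        have h3 := congrArg Prod.fst h2
        have h4 := congrArg Prod.snd h2
        exact hcon n n.2 hns h3 h4
      have h5 := Subgroup.card_le_of_le hle
      rwa [C.card_zs, Subgroup.card_map_of_injective N.subtype_injective] at h5
    have h1 : Nat.card φ.ker * Nat.card φ.range = 64 := by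
      have := φ.ker.card_mul_index
      rw [Subgroup.index_ker, C.card] at this
      exact this
    have h2 : Nat.card φ.range ≤ 4 := by
      have := Subgroup.card_le_card_group φ.range
      have h3 : Nat.card (Multiplicative (ZMod 2 × ZMod 2)) = 4 := by
        rw [Nat.card_eq_fintype_card]; rfl
      rwa [h3] at this
    nlinarith
  -- `y'` not commuting with `x`
  obtain ⟨y', hy', hxy⟩ : ∃ y ∈ N, br x y = 1 := by
    by_contra hcon
    push Not at hcon
    apply hxs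
    refine C.cen x hx fun m hm => ?_
    rcases bit_cases (br x m) with h | h
    · exact br_eq_zero.1 h
    · exact absurd h (hcon m hm)
  have hax : br a x = 0 := by rw [br_symm]; exact hxa
  have hgx : br g x = 0 := by rw [br_symm]; exact hxg
  have hga : br g a = 1 := by rw [br_symm]; exact hag
  refine ⟨g, x, y' * (pw a (br y' g) * pw g (br y' a)), ha, hg, hx,
    mul_mem hy' (mul_mem (pwN ha _) (pwN hg _)), hag, ?_, hax, ?_, hgx, ?_⟩
  · rw [C.brr hx hy' (mul_mem (pwN ha _) (pwN hg _)), C.brr hx (pwN ha _) (pwN hg _), br_pw_right,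
      br_pw_right, hxa, hxg, hxy]
    ring
  · rw [C.brr ha hy' (mul_mem (pwN ha _) (pwN hg _)), C.brr ha (pwN ha _) (pwN hg _), br_pw_right,
      br_pw_right, br_self, hag, br_symm a y', mul_zero, mul_one, zero_add]
    exact zmod_add_self _
  · rw [C.brr hg hy' (mul_mem (pwN ha _) (pwN hg _)), C.brr hg (pwN ha _) (pwN hg _), br_pw_right,
      br_pw_right, br_self, hga, br_symm g y', mul_zero, mul_one, add_zero]
    exact zmod_add_self _

/-- complete a commuting pair to a frame -/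
theorem fr1 [Finite H] (C : Cf N z s) {a b : H} (ha : a ∈ N) (hb : b ∈ N) (hab : br a b = 0)
    (ha' : a ∉ zpowers s) (hb' : b ∉ zpowers s) (hab' : a * b ∉ zpowers s) :
    ∃ g1 g2, Fr N a g1 b g2 := by
  obtain ⟨g, x, y, f⟩ := C.fr0 ha ha'
  have hka : kap a g x y a = (1, 0, 0, 0) := by
    unfold kap
    rw [f.b11, br_self, f.c12, f.b12]
  have hne0 : kap a g x y b ≠ (0, 0, 0, 0) := by
    intro h
    apply hb'
    have h1 : kap a g x y (1 : H) = (0, 0, 0, 0) := by unfold kap; simp only [one_br]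
    have := (C.kap_eq_iff f hb (one_mem N)).1 (h.trans h1.symm)
    simpa using this
  have hne1 : kap a g x y b ≠ (1, 0, 0, 0) := by
    intro h
    apply hab'
    have h1 := (C.kap_eq_iff f hb ha).1 (h.trans hka.symm)
    have h2 : Commute (b * a⁻¹) a := C.zs_comm h1 (C.s_cen a ha).symm
    have h3 : a * b = (b * a⁻¹) * (a * a) := by
      calc a * b = a * (b * a⁻¹) * a := by group
        _ = (b * a⁻¹) * a * a := by rw [h2.eq]
        _ = _ := by group
    rw [h3]
    obtain ⟨c, hc⟩ := C.N_sq ha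
    rw [hc]
    exact mul_mem h1 (C.zp_zs c)
  have h0 : Om (1, 0, 0, 0) (kap a g x y b) = 0 := by
    rw [← hka, ← C.br_eq_Om f ha hb]; exact hab
  obtain ⟨γ, δ, h1, h2, h3, h4, h5⟩ := F4_dual _ h0 hne0 hne1
  have hw : ∀ v : F4, ∀ m ∈ N, br m (wd a g x y v) = Om (kap a g x y m) v := by
    intro v m hm
    rw [C.br_eq_Om f hm (wdN f v), C.kap_wd f]
  refine ⟨wd a g x y γ, wd a g x y δ, ha, wdN f γ, hb, wdN f δ, ?_, ?_, hab, ?_, ?_, ?_⟩
  · rw [hw γ a ha, hka]; exact h1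
  · rw [hw δ b hb]; exact h4
  · rw [hw δ a ha, hka]; exact h3
  · rw [br_symm, hw γ b hb]; exact h2
  · rw [hw δ _ (wdN f γ), C.kap_wd f]; exact h5

/-- representative with square `z` -/
theorem sqz (C : Cf N z s) {x : H} (hx : x ∈ N) : ∃ u ∈ zpowers s, (u * x) * (u * x) = z := by
  rcases C.sq x hx with h | h
  · refine ⟨s, mem_zpowers s, ?_⟩
    calc s * x * (s * x) = s * (x * s) * x := by group
      _ = (s * s) * (x * x) := by rw [C.s_cen x hx]; group
      _ = z := by rw [h, C.s_sq, mul_one]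
  · exact ⟨1, one_mem _, by rw [one_mul]; exact h⟩

theorem z_cases (C : Cf N z s) {c : ZMod 2} : zp z c ∈ zpowers s := C.zp_zs c

/-- **Existence of a triple whose flag stabiliser is `T`.** -/
theorem exists_tri [Finite H] (C : Cf N z s) (T : Sylow 2 H) :
    ∃ (e : Fin 3 → H) (g1 g2 : H), Tri N z s e g1 g2 ∧ C.FG e = ↑T := by
  have hzn := C.zs_normal
  have hNn := C.normal
  have : Fact (Nat.Prime 2) := ⟨Nat.prime_two⟩
  -- `N ≤ T`
  have hNp : IsPGroup 2 N := IsPGroup.of_card (n := 6) (by rw [C.card]; norm_num)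
  have hNT : N ≤ ↑T := hNp.le_sylow_of_normal T
  have hsT : zpowers s ≤ ↑T := C.zs_le.trans hNT
  let π := QuotientGroup.mk' (zpowers s)
  have hπ1 : ∀ x, π x = 1 ↔ x ∈ zpowers s := fun x => QuotientGroup.eq_one_iff (N := zpowers s) x
  -- first fixed element
  obtain ⟨m, hmN, hms, hmt⟩ : ∃ m ∈ N, m ∉ zpowers s ∧ ∀ t ∈ T, t * m * t⁻¹ * m⁻¹ ∈ zpowers s := by
    have hlt : (zpowers s).subgroupOf ↑T < N.subgroupOf ↑T := by
      refine lt_of_le_of_ne ?_ ?_
      · exact Subgroup.comap_mono C.zs_le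
      · intro h
        have h2 : Nat.card ((zpowers s).subgroupOf (T : Subgroup H)) = 4 := by
          rw [Nat.card_congr (Subgroup.subgroupOfEquivOfLe hsT).toEquiv, C.card_zs]
        have h3 : Nat.card (N.subgroupOf (T : Subgroup H)) = 64 := by
          rw [Nat.card_congr (Subgroup.subgroupOfEquivOfLe hNT).toEquiv, C.card]
        rw [h, h3] at h2
        norm_num at h2
    have i1 : ((zpowers s).subgroupOf (T : Subgroup H)).Normal := hzn.subgroupOf _
    have i2 : (N.subgroupOf (T : Subgroup H)).Normal := hNn.subgroupOf _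
    obtain ⟨m, h1, h2, h3⟩ := exists_fix T.isPGroup' ((zpowers s).subgroupOf ↑T) (N.subgroupOf ↑T) hlt
    exact ⟨m, h1, fun h => h2 h, fun t ht => h3 ⟨t, ht⟩⟩
  obtain ⟨u2, hu2, hsq2⟩ := C.sqz hmN
  obtain ⟨e2, he2⟩ : ∃ e2, e2 = u2 * m := ⟨_, rfl⟩
  rw [← he2] at hsq2
  have he2N : e2 ∈ N := by rw [he2]; exact mul_mem (C.zs_le hu2) hmN
  have he2s : e2 ∉ zpowers s := by
    intro h
    apply hms
    have : m = u2⁻¹ * e2 := by rw [he2]; group
    rw [this]; exact mul_mem (inv_mem hu2) h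
  have he2t : ∀ t ∈ T, π (t * e2 * t⁻¹) = π e2 := by
    intro t ht
    have h1 := pi_eq.2 (hmt t ht)
    have h2 : π u2 = 1 := (hπ1 _).2 hu2
    have h3 : π e2 = π m := by rw [he2, map_mul, h2, one_mul]
    have h4 : π (t * e2 * t⁻¹) = π (t * m * t⁻¹) := by
      rw [map_mul, map_mul, h3, map_mul π (t * m), map_mul π t m]
    rw [h4, h3]; exact h1
  have hpe2 : π e2 * π e2 = 1 := C.pi_sq he2N
  -- second fixed element
  obtain ⟨m', hm'N, hm'c, hm's, hm's', hm't⟩ : ∃ m ∈ N, br m e2 = 0 ∧ π m ≠ 1 ∧ π m ≠ π e2 ∧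
      ∀ t ∈ T, π (t * m * t⁻¹) = π m ∨ π (t * m * t⁻¹) = π e2 * π m := by
    have hcl : ∀ x : H, π x ∈ zpowers (π e2) ↔ π x = 1 ∨ π x = π e2 := by
      intro x
      constructor
      · intro hx
        obtain ⟨k, hk⟩ := mem_zpowers_iff.1 hx
        have h2 : (π e2) ^ (2 : ℤ) = 1 := by rw [zpow_two, hpe2]
        have e : (π e2) ^ k = (π e2) ^ (k % 2) := by
          conv_lhs => rw [← Int.mul_ediv_add_emod k 2, zpow_add, zpow_mul, h2, one_zpow, one_mul]
        rw [← hk, e]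
        rcases Int.emod_two_eq_zero_or_one k with h | h
        · left; rw [h, zpow_zero]
        · right; rw [h, zpow_one]
      · rintro (h | h)
        · rw [h]; exact one_mem _
        · rw [h]; exact mem_zpowers _
    let K2 : Subgroup H := (zpowers (π e2)).comap π
    let M2 : Subgroup H := N ⊓ centralizer {e2}
    have hK2N : K2 ≤ N := by
      intro x hx
      rcases (hcl x).1 hx with h | h
      · exact C.zs_le ((hπ1 x).1 h)
      · have : x * e2⁻¹ ∈ zpowers s := pi_eq.1 h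
        have h2 : x = (x * e2⁻¹) * e2 := by group
        rw [h2]; exact mul_mem (C.zs_le this) he2N
    have hmc : ∀ x, x ∈ centralizer {e2} ↔ br x e2 = 0 := by
      intro x
      rw [Subgroup.mem_centralizer_singleton_iff, br_eq_zero]
    have hK2M : K2 ≤ M2 := by
      intro x hx
      refine ⟨hK2N hx, (hmc x).2 ?_⟩
      rcases (hcl x).1 hx with h | h
      · exact C.br_zs_left ((hπ1 x).1 h) he2N
      · have h1 : x * e2⁻¹ ∈ zpowers s := pi_eq.1 h
        have h2 : x = (x * e2⁻¹) * e2 := by group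
        rw [h2, C.brl (C.zs_le h1) he2N he2N, C.br_zs_left h1 he2N, br_self, add_zero]
    have hM2T : M2 ≤ ↑T := inf_le_left.trans hNT
    have hK2T : K2 ≤ ↑T := hK2N.trans hNT
    have i1 : (K2.subgroupOf (T : Subgroup H)).Normal := by
      constructor
      rintro ⟨x, hxT⟩ hx ⟨t, ht⟩
      show π (t * x * t⁻¹) ∈ zpowers (π e2)
      rw [hcl]
      rcases (hcl x).1 hx with h | h
      · left
        rw [map_mul, map_mul, h, mul_one, ← map_mul, mul_inv_cancel, map_one]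
      · right
        rw [← he2t t ht, map_mul, map_mul, h, map_mul π (t * e2), map_mul π t e2]
    have i2 : (M2.subgroupOf (T : Subgroup H)).Normal := by
      constructor
      rintro ⟨x, hxT⟩ hx ⟨t, ht⟩
      show t * x * t⁻¹ ∈ M2
      have hx1 : x ∈ N := hx.1
      have hx2 : br x e2 = 0 := (hmc x).1 hx.2
      refine ⟨C.conjN t hx1, (hmc _).2 ?_⟩
      have h1 : e2 * (t * e2 * t⁻¹)⁻¹ ∈ zpowers s := pi_eq.1 (he2t t ht).symm
      have h2 : e2 = (e2 * (t * e2 * t⁻¹)⁻¹) * (t * e2 * t⁻¹) := by group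
      have h3 : br (t * x * t⁻¹) e2 = br (t * x * t⁻¹) (t * e2 * t⁻¹) := by
        conv_lhs => rw [h2]
        rw [C.brr (C.conjN t hx1) (C.zs_le h1) (C.conjN t he2N), C.br_zs_right h1 (C.conjN t hx1), zero_add]
      rw [h3, br_conj]; exact hx2
    have hlt : K2.subgroupOf ↑T < M2.subgroupOf ↑T := by
      refine lt_of_le_of_ne (Subgroup.comap_mono hK2M) ?_
      intro h
      obtain ⟨g, x, y, f⟩ := C.fr0 he2N he2s
      have hx : (⟨x, hNT f.m3⟩ : ↥(T : Subgroup H)) ∈ M2.subgroupOf ↑T :=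
        ⟨f.m3, (hmc x).2 (by rw [br_symm]; exact f.b12)⟩
      rw [← h] at hx
      have hx' : π x ∈ zpowers (π e2) := hx
      rcases (hcl x).1 hx' with h1 | h1
      · have h2 := C.br_zs_left ((hπ1 x).1 h1) f.m4
        rw [f.b22] at h2; exact one_ne_zero h2
      · have h2 : x * e2⁻¹ ∈ zpowers s := pi_eq.1 h1
        have h3 : x = (x * e2⁻¹) * e2 := by group
        have h4 : br x y = 0 := by
          rw [h3, C.brl (C.zs_le h2) he2N f.m4, C.br_zs_left h2 f.m4, f.c12, add_zero]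
        rw [f.b22] at h4; exact one_ne_zero h4
    obtain ⟨m, h1, h2, h3⟩ := exists_fix T.isPGroup' (K2.subgroupOf ↑T) (M2.subgroupOf ↑T) hlt
    have h1' : (m : H) ∈ M2 := h1
    have h2' : ¬ (π (m : H) = 1 ∨ π (m : H) = π e2) := fun h => h2 ((hcl (m : H)).2 h)
    push Not at h2'
    refine ⟨m, h1'.1, (hmc _).1 h1'.2, h2'.1, h2'.2, fun t ht => ?_⟩
    have h4 : π (t * m * t⁻¹ * (m : H)⁻¹) ∈ zpowers (π e2) := h3 ⟨t, ht⟩
    rw [hcl] at h4
    rcases h4 with h4 | h4
    · left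
      rw [map_mul, map_inv, mul_inv_eq_one] at h4
      exact h4
    · right
      rw [map_mul, map_inv, mul_inv_eq_iff_eq_mul] at h4
      exact h4
  obtain ⟨u0, hu0, hsq0⟩ := C.sqz hm'N
  obtain ⟨e0, he0⟩ : ∃ e0, e0 = u0 * m' := ⟨_, rfl⟩
  rw [← he0] at hsq0
  have he0N : e0 ∈ N := by rw [he0]; exact mul_mem (C.zs_le hu0) hm'N
  have hpe0 : π e0 = π m' := by rw [he0, map_mul, (hπ1 _).2 hu0, one_mul]
  have hc02 : br e0 e2 = 0 := by
    rw [he0, C.brl (C.zs_le hu0) hm'N he2N, C.br_zs_left hu0 he2N, hm'c, add_zero]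
  have hcomm02 : Commute e0 e2 := br_eq_zero.1 hc02
  obtain ⟨e1, he1⟩ : ∃ e1, e1 = e0⁻¹ * s * e2⁻¹ := ⟨_, rfl⟩
  have he1N : e1 ∈ N := by rw [he1]; exact mul_mem (mul_mem (inv_mem he0N) C.sN) (inv_mem he2N)
  have hcs0 : Commute e0 s := C.s_cen _ he0N
  have hcs2 : Commute e2 s := C.s_cen _ he2N
  have hc01 : Commute e0 e1 := by
    rw [he1]
    exact (((Commute.refl e0).inv_right).mul_right hcs0).mul_right hcomm02.inv_right
  have hsq1 : e1 * e1 = z := by
    have h1 : e1 * e1 = (e0 * e0)⁻¹ * (s * s) * (e2 * e2)⁻¹ := by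
      have k1 : Commute s e0⁻¹ := hcs0.symm.inv_right
      have k2 : Commute e2⁻¹ e0⁻¹ := hcomm02.symm.inv_inv
      have k3 : Commute e2⁻¹ s := hcs2.inv_left
      rw [he1]
      calc e0⁻¹ * s * e2⁻¹ * (e0⁻¹ * s * e2⁻¹) = e0⁻¹ * s * (e2⁻¹ * (e0⁻¹ * s)) * e2⁻¹ := by group
        _ = e0⁻¹ * s * ((e0⁻¹ * s) * e2⁻¹) * e2⁻¹ := by rw [(k2.mul_right k3).eq]
        _ = e0⁻¹ * (s * e0⁻¹) * s * (e2⁻¹ * e2⁻¹) := by group
        _ = e0⁻¹ * (e0⁻¹ * s) * s * (e2⁻¹ * e2⁻¹) := by rw [k1.eq]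
        _ = _ := by group
    rw [h1, hsq0, hsq2, C.s_sq, inv_mul_cancel, one_mul]
    exact inv_eq_of_mul_eq_one_left C.z_sq
  have hprod : e0 * e1 * e2 = s := by rw [he1]; group
  have hpe1 : π e1 = π e0 * π e2 := by
    have hs1 : π s = 1 := (hπ1 _).2 (mem_zpowers s)
    rw [he1, map_mul, map_mul, hs1, mul_one, map_inv, map_inv]
    have h1 : (π e0)⁻¹ = π e0 := inv_eq_of_mul_eq_one_left (C.pi_sq he0N)
    have h2 : (π e2)⁻¹ = π e2 := inv_eq_of_mul_eq_one_left hpe2
    rw [h1, h2]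
  have he0s : e0 ∉ zpowers s := by
    intro h; exact hm's (by rw [← hpe0]; exact (hπ1 _).2 h)
  have he1s : e1 ∉ zpowers s := by
    intro h
    apply hm's'
    have h1 : π e0 * π e2 = π e2 * π e2 := by rw [← hpe1, hpe2]; exact (hπ1 _).2 h
    rw [← hpe0]; exact mul_right_cancel h1
  have he01s : e0 * e1 ∉ zpowers s := by
    intro h
    apply he2s
    have : e2 = (e0 * e1)⁻¹ * s := by rw [← hprod]; group
    rw [this]; exact mul_mem (inv_mem h) (mem_zpowers s)
  obtain ⟨g1, g2, f⟩ := C.fr1 he0N he1N (br_eq_zero.2 hc01.eq) he0s he1s he01s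
  let e : Fin 3 → H := ![e0, e1, e2]
  have E : Tri N z s e g1 g2 := by
    refine ⟨f, ?_, ?_, hprod⟩
    · intro k; fin_cases k
      · exact he0N
      · exact he1N
      · exact he2N
    · intro k; fin_cases k
      · exact hsq0
      · exact hsq1
      · exact hsq2
  refine ⟨e, g1, g2, E, ?_⟩
  have hle : (T : Subgroup H) ≤ C.FG e := by
    intro t ht
    have h2 : ∃ c, t * e 2 * t⁻¹ = zp z c * e 2 :=
      C.mod_z he2N (C.sq_conj_z hsq2 t) hsq2 (pi_eq.1 (he2t t ht))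
    have h0 : π (t * e0 * t⁻¹) = π (t * m' * t⁻¹) := by
      rw [map_mul, map_mul, hpe0, map_mul π (t * m'), map_mul π t m']
    rcases hm't t ht with h | h
    · left
      refine C.fx_of_two E ?_ h2
      refine C.mod_z he0N (C.sq_conj_z hsq0 t) hsq0 (pi_eq.1 ?_)
      show π (t * e0 * t⁻¹) = π e0
      rw [h0, h, hpe0]
    · right
      refine C.sw_of_two E ?_ h2
      refine C.mod_z he1N (C.sq_conj_z hsq0 t) hsq1 (pi_eq.1 ?_)
      show π (t * e0 * t⁻¹) = π e1
      rw [h0, h, hpe1, hpe0]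
      exact (C.pi_comm he2N hm'N).eq
  exact T.is_maximal' (C.FG_two E) hle

/-- **`N` is characteristic in every Sylow 2-subgroup of `H`.** -/
theorem N_char [Finite H] (C : Cf N z s) (T : Sylow 2 H) (φ : ↥(T : Subgroup H) ≃* ↥(T : Subgroup H)) :
    (N.subgroupOf ↑T).map φ.toMonoidHom = N.subgroupOf ↑T := by
  obtain ⟨e, g1, g2, E, hFT⟩ := C.exists_tri T
  have hNT : N ≤ ↑T := by rw [← hFT]; exact C.N_le_FG E
  -- `φ z = z`
  have hzT : z ∈ (T : Subgroup H) := hNT C.zN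
  have hsT : s ∈ (T : Subgroup H) := hNT C.sN
  have hφz : ((φ ⟨z, hzT⟩ : ↥(T : Subgroup H)) : H) = z := by
    obtain ⟨y, hy⟩ : ∃ y, y = φ ⟨z, hzT⟩ := ⟨_, rfl⟩
    rw [← hy]
    have hyc : ∀ x : ↥(T : Subgroup H), y * x = x * y := by
      intro x
      have h1 : φ (⟨z, hzT⟩ * φ.symm x) = φ (φ.symm x * ⟨z, hzT⟩) := by
        congr 1; exact Subtype.ext (C.z_cen _).symm
      rw [map_mul, map_mul, φ.apply_symm_apply, ← hy] at h1
      exact h1
    have hyN : (y : H) ∈ N := by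
      refine C.faith _ fun n hn => ?_
      have h1 : (y : H) * n = n * y := congrArg Subtype.val (hyc ⟨n, hNT hn⟩)
      rw [h1, mul_inv_cancel_right, mul_inv_cancel]; exact one_mem _
    have hys : (y : H) ∈ zpowers s :=
      C.cen _ hyN fun m hm => congrArg Subtype.val (hyc ⟨m, hNT hm⟩)
    obtain ⟨d, hd, hdb⟩ := C.exists_J E ![0, 0, 1]
    have d0 : br d (e 0) = 0 := hdb 0
    have d1 : br d (e 1) = 0 := hdb 1
    have d2 : br d (e 2) = 1 := hdb 2
    have hds : br d s = 1 := by rw [← C.sum_br E hd.1, d0, d1, d2]; rfl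
    have hdT : d ∈ (T : Subgroup H) := by rw [← hFT]; exact C.J_le_FG hd
    have hdy : br d (y : H) = 0 := br_eq_zero.2 (congrArg Subtype.val (hyc ⟨d, hdT⟩)).symm
    rcases C.mem_zs.1 hys with h | h | h | h
    · exfalso
      have : y = 1 := Subtype.ext h
      rw [hy] at this
      have h2 : (⟨z, hzT⟩ : ↥(T : Subgroup H)) = 1 := by
        have h3 := congrArg φ.symm this
        rwa [φ.symm_apply_apply, map_one] at h3
      exact C.z_ne (congrArg Subtype.val h2)
    · rw [h, hds] at hdy; exact absurd hdy one_ne_zero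
    · exact h
    · have h4 := C.br_zp_any 1 d s
      rw [zp_one] at h4
      rw [h, h4, hds] at hdy; exact absurd hdy one_ne_zero
  -- the image
  let N1 : Subgroup H := ((N.subgroupOf ↑T).map φ.toMonoidHom).map (T : Subgroup H).subtype
  have hN1 : ∀ y, y ∈ N1 ↔ ∃ n, ∃ hn : n ∈ N, y = ((φ ⟨n, hNT hn⟩ : ↥(T : Subgroup H)) : H) := by
    intro y
    constructor
    · rintro ⟨w, ⟨n, hn, rfl⟩, rfl⟩
      exact ⟨n, hn, rfl⟩
    · rintro ⟨n, hn, rfl⟩
      exact ⟨_, ⟨⟨n, hNT hn⟩, hn, rfl⟩, rfl⟩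
  have hφzp : ∀ c, ∀ h : zp z c ∈ (T : Subgroup H), ((φ ⟨zp z c, h⟩ : ↥(T : Subgroup H)) : H) = zp z c := by
    intro c h
    rcases bit_cases c with rfl | rfl
    · have : (⟨zp z 0, h⟩ : ↥(T : Subgroup H)) = 1 := Subtype.ext (zp_zero (z := z))
      rw [this, map_one, zp_zero]; rfl
    · have : (⟨zp z 1, h⟩ : ↥(T : Subgroup H)) = ⟨z, hzT⟩ := Subtype.ext zp_one
      rw [this, hφz, zp_one]
  have hsgφ : ∀ a b : ↥(T : Subgroup H), Sg z (a : H) b → Sg z ((φ a : ↥(T : Subgroup H)) : H) (φ b : ↥(T : Subgroup H)) := by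
    intro a b hab
    rcases hab with h | h
    · left
      have : a * b = b * a := Subtype.ext h
      have h2 := congrArg φ this
      rw [map_mul, map_mul] at h2
      exact congrArg Subtype.val h2
    · right
      have : a * b = ⟨z, hzT⟩ * (b * a) := Subtype.ext h
      have h2 := congrArg φ this
      rw [map_mul, map_mul, map_mul] at h2
      have h3 := congrArg Subtype.val h2
      have h4 : ((φ a * φ b : ↥(T : Subgroup H)) : H) =
          ((φ ⟨z, hzT⟩ : ↥(T : Subgroup H)) : H) * (((φ b : ↥(T : Subgroup H)) : H) * (φ a : ↥(T : Subgroup H))) := h3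
      rw [hφz] at h4
      exact h4
  have hcard : Nat.card N1 = 64 := by
    show Nat.card (((N.subgroupOf ↑T).map φ.toMonoidHom).map (T : Subgroup H).subtype) = 64
    rw [Subgroup.card_map_of_injective (T : Subgroup H).subtype_injective,
      Subgroup.card_map_of_injective (f := φ.toMonoidHom) φ.injective,
      Nat.card_congr (Subgroup.subgroupOfEquivOfLe hNT).toEquiv, C.card]
  have hle : N1 ≤ C.FG e := by
    rw [hFT]
    intro y hy
    obtain ⟨n, hn, rfl⟩ := (hN1 y).1 hy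
    exact (φ ⟨n, hNT hn⟩).2
  have huniq : N1 = N := by
    refine C.uniq E hle hcard ?_ ?_ ?_ ?_ (s1 := ((φ ⟨s, hsT⟩ : ↥(T : Subgroup H)) : H)) ?_ ?_ ?_ ?_
    · intro y hy
      obtain ⟨n, hn, rfl⟩ := (hN1 y).1 hy
      obtain ⟨c, hc⟩ := C.N_sq hn
      refine ⟨c, ?_⟩
      have h1 : (⟨n, hNT hn⟩ : ↥(T : Subgroup H)) * ⟨n, hNT hn⟩ = ⟨zp z c, hNT (C.zpN c)⟩ := Subtype.ext hc
      have h2 := congrArg φ h1
      rw [map_mul] at h2
      have h3 := congrArg Subtype.val h2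
      rw [hφzp] at h3
      exact h3
    · intro y hy y' hy'
      obtain ⟨n, hn, rfl⟩ := (hN1 y).1 hy
      obtain ⟨n', hn', rfl⟩ := (hN1 y').1 hy'
      exact hsgφ _ _ (C.sg hn hn')
    · intro t ht y hy
      rw [hFT] at ht
      obtain ⟨n, hn, rfl⟩ := (hN1 y).1 hy
      obtain ⟨t', ht'⟩ : ∃ t', φ t' = ⟨t, ht⟩ := φ.surjective _
      refine (hN1 _).2 ⟨(t' : H) * n * (t' : H)⁻¹, C.conjN _ hn, ?_⟩
      have h1 : (⟨(t' : H) * n * (t' : H)⁻¹, hNT (C.conjN _ hn)⟩ : ↥(T : Subgroup H)) =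
          t' * ⟨n, hNT hn⟩ * t'⁻¹ := rfl
      rw [h1, map_mul, map_mul, map_inv, ht']
      rfl
    · intro t ht hcom
      rw [hFT] at ht
      obtain ⟨t', ht'⟩ : ∃ t', φ t' = ⟨t, ht⟩ := φ.surjective _
      have h1 : (t' : H) ∈ N := by
        refine C.faith _ fun n hn => ?_
        have h2 : Sg z t ((φ ⟨n, hNT hn⟩ : ↥(T : Subgroup H)) : H) := hcom _ ((hN1 _).2 ⟨n, hn, rfl⟩)
        have h3 : Sg z (t' : H) n := by
          have inj : ∀ a b : ↥(T : Subgroup H), ((φ a : ↥(T : Subgroup H)) : H) = (φ b : ↥(T : Subgroup H)) → (a : H) = b :=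
            fun a b h => congrArg Subtype.val (φ.injective (Subtype.ext h))
          rcases h2 with h2 | h2
          · left
            refine inj (t' * ⟨n, hNT hn⟩) (⟨n, hNT hn⟩ * t') ?_
            rw [map_mul, map_mul, ht']; exact h2
          · right
            refine inj (t' * ⟨n, hNT hn⟩) (⟨z, hzT⟩ * (⟨n, hNT hn⟩ * t')) ?_
            rw [map_mul, map_mul, map_mul, ht']
            show t * ((φ ⟨n, hNT hn⟩ : ↥(T : Subgroup H)) : H) =
              ((φ ⟨z, hzT⟩ : ↥(T : Subgroup H)) : H) * (((φ ⟨n, hNT hn⟩ : ↥(T : Subgroup H)) : H) * t)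
            rw [hφz]; exact h2
        obtain ⟨c, hc⟩ := C.sg_iff.1 h3
        rw [hc, mul_inv_cancel_right]; exact C.zp_zs c
      refine (hN1 t).2 ⟨t', h1, ?_⟩
      show t = ((φ t' : ↥(T : Subgroup H)) : H)
      rw [ht']
    · exact (hN1 _).2 ⟨s, C.sN, rfl⟩
    · have h1 : (⟨s, hsT⟩ : ↥(T : Subgroup H)) * ⟨s, hsT⟩ = ⟨z, hzT⟩ := Subtype.ext C.s_sq
      have h2 := congrArg φ h1
      rw [map_mul] at h2
      have h3 := congrArg Subtype.val h2
      rw [hφz] at h3
      exact h3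
    · intro y hy
      obtain ⟨n, hn, rfl⟩ := (hN1 y).1 hy
      have h1 : (⟨n, hNT hn⟩ : ↥(T : Subgroup H)) * ⟨s, hsT⟩ = ⟨s, hsT⟩ * ⟨n, hNT hn⟩ := Subtype.ext (C.s_cen n hn)
      have h2 := congrArg φ h1
      rw [map_mul, map_mul] at h2
      exact congrArg Subtype.val h2
    · intro t ht
      rw [hFT] at ht
      obtain ⟨t', ht'⟩ : ∃ t', φ t' = ⟨t, ht⟩ := φ.surjective _
      have h1 := hsgφ t' ⟨s, hsT⟩ (C.sg_s _)
      rw [ht'] at h1
      exact h1
  have hinj : Function.Injective (Subgroup.map (T : Subgroup H).subtype) :=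
    Subgroup.map_injective (T : Subgroup H).subtype_injective
  apply hinj
  rw [Subgroup.subgroupOf_map_subtype, inf_of_le_left hNT]
  exact huniq

end Cf

end Cfsg.Agent.H336.Co3
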