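import Cfsg.Agent.H336.Co3.JGrp

/-!
# Transvections invert `s` (helper336)
-/

set_option autoImplicit false

open Subgroup

namespace Cfsg.Agent.H336.Co3

/-- All even involutions of `S₆` are conjugate. -/
theorem even_conj {σ τ : Equiv.Perm (Fin 6)} (h1 : σ ≠ 1) (h2 : τ ≠ 1) (h3 : σ * σ = 1) (h4 : τ * τ = 1)
    (h5 : Equiv.Perm.sign σ = 1) (h6 : Equiv.Perm.sign τ = 1) : IsConj σ τ := by
  have key : ∀ ρ : Equiv.Perm (Fin 6), ρ ≠ 1 → ρ * ρ = 1 → Equiv.Perm.sign ρ = 1 →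
      ρ.cycleType = Multiset.replicate 2 2 := by
    intro ρ hne hsq hs
    have ho : orderOf ρ = 2 := orderOf_eq_prime (by rw [pow_two, hsq]) hne
    obtain ⟨n, hn⟩ := Equiv.Perm.cycleType_prime_order (σ := ρ) (by rw [ho]; exact Nat.prime_two)
    rw [ho] at hn
    have h7 : ρ.cycleType.sum ≤ 6 := by
      rw [Equiv.Perm.sum_cycleType]
      exact (Finset.card_le_univ _).trans (by simp)
    rw [hn, Multiset.sum_replicate, smul_eq_mul] at h7
    have h8 : Equiv.Perm.sign ρ = (-1) ^ (n + 1) := by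
      rw [Equiv.Perm.sign_of_cycleType, hn]
      simp only [Multiset.sum_replicate, Multiset.card_replicate, smul_eq_mul]
      have : (n + 1) * 2 + (n + 1) = 2 * (n + 1) + (n + 1) := by ring
      rw [this, pow_add, pow_mul]
      simp
    have h9 : n = 0 ∨ n = 1 ∨ n = 2 := by omega
    rcases h9 with rfl | rfl | rfl
    · rw [hs] at h8; exact absurd h8 (by decide)
    · exact hn
    · rw [hs] at h8; exact absurd h8 (by decide)
  rw [Equiv.Perm.isConj_iff_cycleType_eq, key σ h1 h3 h5, key τ h2 h4 h6]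

variable {H : Type*} [Group H]

/-- `t` acts on `N/⟨s⟩` as the transvection with centre `a`. -/
def Tv (N : Subgroup H) (s a t : H) : Prop :=
  ∀ x ∈ N, t * x * t⁻¹ * (pw a (br x a) * x)⁻¹ ∈ zpowers s

namespace Cf

variable {N : Subgroup H} {z s : H} {e : Fin 3 → H} {g1 g2 : H}

theorem zs_comm (_ : Cf N z s) {u x : H} (hu : u ∈ zpowers s) (h : Commute s x) : Commute u x := by
  obtain ⟨k, rfl⟩ := mem_zpowers_iff.1 hu
  exact h.zpow_left k

/-- congruence mod `⟨s⟩` of elements of square `z` is congruence mod `z` -/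
theorem mod_z (C : Cf N z s) {a b : H} (hb : b ∈ N) (ha2 : a * a = z) (hb2 : b * b = z)
    (h : a * b⁻¹ ∈ zpowers s) : ∃ c, a = zp z c * b := by
  have hc : Commute s b := (C.s_cen b hb).symm
  have e1 : a = (a * b⁻¹) * b := by group
  have hcu := C.zs_comm h hc
  have h2 : (a * b⁻¹) * (a * b⁻¹) = 1 := by
    have : a * a = (a * b⁻¹) * (a * b⁻¹) * (b * b) := by
      conv_lhs => rw [e1]
      calc (a * b⁻¹) * b * ((a * b⁻¹) * b) = (a * b⁻¹) * (b * (a * b⁻¹)) * b := by group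
        _ = (a * b⁻¹) * ((a * b⁻¹) * b) * b := by rw [hcu.eq]
        _ = _ := by group
    rw [ha2, hb2] at this
    have h3 : (a * b⁻¹) * (a * b⁻¹) * z = 1 * z := by rw [← this, one_mul]
    exact mul_right_cancel h3
  rcases C.mem_zs.1 h with h1 | h1 | h1 | h1
  · exact ⟨0, by rw [zp_zero, one_mul]; exact mul_inv_eq_one.1 h1⟩
  · exfalso; rw [h1, C.s_sq] at h2; exact C.z_ne h2
  · refine ⟨1, ?_⟩
    rw [zp_one, ← h1]; group
  · exfalso
    rw [h1] at h2
    have : z * s * (z * s) = z := by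
      calc z * s * (z * s) = z * (s * z) * s := by group
        _ = z * (z * s) * s := by rw [C.z_cen s]
        _ = (z * z) * (s * s) := by group
        _ = z := by rw [C.z_sq, C.s_sq, one_mul]
    rw [this] at h2
    exact C.z_ne h2

/-- induction on `N` along a frame -/
theorem ind [Finite H] (C : Cf N z s) {e1 k1 e2 k2 : H} (f : Fr N e1 k1 e2 k2) (p : H → Prop)
    (hs : ∀ u ∈ zpowers s, p u) (h1 : p e1) (h2 : p k1) (h3 : p e2) (h4 : p k2)
    (hm : ∀ a ∈ N, ∀ b ∈ N, p a → p b → p (a * b)) : ∀ n ∈ N, p n := by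
  have hp : ∀ a c, p a → p (pw a c) := by
    intro a c ha
    rcases bit_cases c with rfl | rfl
    · rw [pw_zero]; exact hs 1 (one_mem _)
    · rw [pw_one]; exact ha
  intro n hn
  obtain ⟨u, hu, hn'⟩ := C.cover f hn
  rw [hn']
  refine hm _ (C.zs_le hu) _ (wdN f _) (hs u hu) ?_
  unfold wd
  exact hm _ (mul_mem (pwN f.m1 _) (pwN f.m2 _)) _ (mul_mem (pwN f.m3 _) (pwN f.m4 _))
    (hm _ (pwN f.m1 _) _ (pwN f.m2 _) (hp _ _ h1) (hp _ _ h2))
    (hm _ (pwN f.m3 _) _ (pwN f.m4 _) (hp _ _ h3) (hp _ _ h4))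

section pi

/-- equality in `H/⟨s⟩` -/
theorem pi_eq [(zpowers s).Normal] {a b : H} :
    QuotientGroup.mk' (zpowers s) a = QuotientGroup.mk' (zpowers s) b ↔ a * b⁻¹ ∈ zpowers s := by
  rw [← mul_inv_eq_one, ← map_inv, ← map_mul]
  exact QuotientGroup.eq_one_iff (N := zpowers s) _

theorem pi_comm (C : Cf N z s) [(zpowers s).Normal] {a b : H} (ha : a ∈ N) (hb : b ∈ N) :
    Commute (QuotientGroup.mk' (zpowers s) a) (QuotientGroup.mk' (zpowers s) b) := by
  show _ * _ = _ * _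
  rw [← map_mul, ← map_mul, pi_eq]
  rcases C.comm a ha b hb with h | h
  · rw [h, mul_inv_cancel]; exact one_mem _
  · rw [h, mul_inv_cancel_right]; exact C.z_mem_zs

theorem pi_sq (C : Cf N z s) [(zpowers s).Normal] {a : H} (ha : a ∈ N) :
    QuotientGroup.mk' (zpowers s) a * QuotientGroup.mk' (zpowers s) a = 1 := by
  rw [← map_mul]
  refine (QuotientGroup.eq_one_iff (N := zpowers s) _).2 ?_
  rcases C.sq a ha with h | h
  · rw [h]; exact one_mem _
  · rw [h]; exact C.z_mem_zs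

end pi

theorem Tv_conj (C : Cf N z s) {a t : H} (h : Tv N s a t) (g : H) : Tv N s (g * a * g⁻¹) (g * t * g⁻¹) := by
  intro x hx
  have hx' : g⁻¹ * x * g ∈ N := by simpa using C.conjN g⁻¹ hx
  have h1 := C.zs_normal.conj_mem _ (h _ hx') g
  have hb : br (g⁻¹ * x * g) a = br x (g * a * g⁻¹) := by
    have := br_conj g (g⁻¹ * x * g) a
    rw [← this]; congr 1; group
  rw [hb] at h1
  have hpw : g * pw a (br x (g * a * g⁻¹)) * g⁻¹ = pw (g * a * g⁻¹) (br x (g * a * g⁻¹)) := by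
    rcases bit_cases (br x (g * a * g⁻¹)) with h | h
    · rw [h, pw_zero, pw_zero]; group
    · rw [h, pw_one, pw_one]
  rw [← hpw]
  have e1 : g * t * g⁻¹ * x * (g * t * g⁻¹)⁻¹ * (g * pw a (br x (g * a * g⁻¹)) * g⁻¹ * x)⁻¹ =
      g * (t * (g⁻¹ * x * g) * t⁻¹ * (pw a (br x (g * a * g⁻¹)) * (g⁻¹ * x * g))⁻¹) * g⁻¹ := by group
  rw [e1]; exact h1

theorem Tv_congr (C : Cf N z s) {a b t : H} (ha : a ∈ N) (h : Tv N s a t) (hab : a * b⁻¹ ∈ zpowers s) :
    Tv N s b t := by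
  have := C.zs_normal
  have hb : b ∈ N := by
    have : b = (a * b⁻¹)⁻¹ * a := by group
    rw [this]; exact mul_mem (inv_mem (C.zs_le hab)) ha
  intro x hx
  have h1 := h x hx
  have hbr : br x a = br x b := by
    have e1 : a = (a * b⁻¹) * b := by group
    conv_lhs => rw [e1]
    rw [C.brr hx (C.zs_le hab) hb, C.br_zs_right hab hx, zero_add]
  rw [hbr] at h1
  rw [← pi_eq] at h1 ⊢
  rw [h1, map_mul, map_mul]
  congr 1
  rcases bit_cases (br x b) with h | h
  · rw [h, pw_zero, pw_zero]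
  · rw [h, pw_one, pw_one]; exact pi_eq.2 hab

theorem Tv_N (C : Cf N z s) {a t n : H} (ha : a ∈ N) (h : Tv N s a t) (hn : n ∈ N) : Tv N s a (n * t) := by
  have := C.zs_normal
  intro x hx
  have h1 := h x hx
  rw [← pi_eq] at h1 ⊢
  have hc := C.pi_comm hn (mul_mem (pwN ha (br x a)) hx)
  calc QuotientGroup.mk' (zpowers s) (n * t * x * (n * t)⁻¹)
      = QuotientGroup.mk' (zpowers s) n * QuotientGroup.mk' (zpowers s) (t * x * t⁻¹) *
          (QuotientGroup.mk' (zpowers s) n)⁻¹ := by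
        simp only [map_mul, map_inv]; group
    _ = _ := by rw [h1, hc.eq, mul_inv_cancel_right]

/-- existence of a transvection with centre `e 2` -/
theorem exists_Tv [Finite H] (C : Cf N z s) (E : Tri N z s e g1 g2) :
    ∃ t, Tv N s (e 2) t := by
  have := C.zs_normal
  have f := E.fr
  have b1 := C.brg12 E
  have b2 := C.brg22 E
  have b1' : br (e 2) g1 = 1 := by rw [br_symm]; exact b1
  have b2' : br (e 2) g2 = 1 := by rw [br_symm]; exact b2
  have f' : Fr N (e 0) (e 2 * g1) (e 1) (e 2 * g2) := by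
    refine ⟨f.m1, mul_mem (E.m 2) f.m2, f.m3, mul_mem (E.m 2) f.m4, ?_, ?_, f.b12, ?_, ?_, ?_⟩
    · rw [C.brr f.m1 (E.m 2) f.m2, C.bree E, f.b11, zero_add]
    · rw [C.brr f.m3 (E.m 2) f.m4, C.bree E, f.b22, zero_add]
    · rw [C.brr f.m1 (E.m 2) f.m4, C.bree E, f.c12, zero_add]
    · rw [C.brl (E.m 2) f.m2 f.m3, C.bree E, f.c21, zero_add]
    · rw [C.brl (E.m 2) f.m2 (mul_mem (E.m 2) f.m4), C.brr (E.m 2) (E.m 2) f.m4,
        C.brr f.m2 (E.m 2) f.m4, C.bree E, b2', b1, f.d12]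
      rfl
  obtain ⟨t, h1, h2, h3, h4⟩ := C.exists_frame f f'
  refine ⟨t, ?_⟩
  refine C.ind f (fun x => t * x * t⁻¹ * (pw (e 2) (br x (e 2)) * x)⁻¹ ∈ zpowers s) ?_ ?_ ?_ ?_ ?_ ?_
  · intro u hu
    have : br u (e 2) = 0 := C.br_zs_left hu (E.m 2)
    rw [this, pw_zero, one_mul]
    exact mul_mem (C.zs_normal.conj_mem _ hu t) (inv_mem hu)
  · rw [C.bree E, pw_zero, one_mul]; exact h1
  · rw [b1, pw_one]; exact h2
  · rw [C.bree E, pw_zero, one_mul]; exact h3
  · rw [b2, pw_one]; exact h4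
  · intro a ha b hb pa pb
    rw [← pi_eq] at pa pb ⊢
    have hc := C.pi_comm ha (pwN (E.m 2) (br b (e 2)))
    have hpw : QuotientGroup.mk' (zpowers s) (pw (e 2) (br a (e 2))) *
        QuotientGroup.mk' (zpowers s) (pw (e 2) (br b (e 2))) =
        QuotientGroup.mk' (zpowers s) (pw (e 2) (br (a * b) (e 2))) := by
      rw [C.brl ha hb (E.m 2), ← map_mul, C.pw_mul (E.sq 2), map_mul,
        (QuotientGroup.eq_one_iff (N := zpowers s) _).2 (C.zp_zs _) |> fun h : (QuotientGroup.mk' (zpowers s))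
          (zp z (br a (e 2) * br b (e 2))) = 1 => h, one_mul]
    calc QuotientGroup.mk' (zpowers s) (t * (a * b) * t⁻¹)
        = QuotientGroup.mk' (zpowers s) (t * a * t⁻¹) * QuotientGroup.mk' (zpowers s) (t * b * t⁻¹) := by
          rw [← map_mul]; congr 1; group
      _ = QuotientGroup.mk' (zpowers s) (pw (e 2) (br a (e 2))) *
          (QuotientGroup.mk' (zpowers s) a * QuotientGroup.mk' (zpowers s) (pw (e 2) (br b (e 2)))) *
            QuotientGroup.mk' (zpowers s) b := by rw [pa, pb, map_mul, map_mul]; group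
      _ = QuotientGroup.mk' (zpowers s) (pw (e 2) (br (a * b) (e 2)) * (a * b)) := by
          rw [hc.eq, map_mul, map_mul, ← hpw]; group

/-- the sign hom -/
noncomputable def chi (C : Cf N z s) : H →* ℤˣ where
  toFun h := if br h s = 0 then 1 else -1
  map_one' := by rw [if_pos (br_eq_zero.2 (by simp))]
  map_mul' a b := by
    rw [br_mul_left C.z_cen C.z_sq C.z_ne (C.sg_s a) (C.sg_s b)]
    rcases bit_cases (br a s) with h1 | h1 <;> rcases bit_cases (br b s) with h2 | h2 <;> rw [h1, h2] <;> decide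

theorem chi_eq (C : Cf N z s) {h : H} : C.chi h = 1 ↔ br h s = 0 := by
  show (if br h s = 0 then (1 : ℤˣ) else -1) = 1 ↔ _
  split_ifs with h1
  · simp [h1]
  · simp [h1]

theorem Tv_act (_ : Cf N z s) {a t : H} (h : Tv N s a t) [(zpowers s).Normal] {x : H} (hx : x ∈ N) :
    QuotientGroup.mk' (zpowers s) t * QuotientGroup.mk' (zpowers s) x * (QuotientGroup.mk' (zpowers s) t)⁻¹ =
      QuotientGroup.mk' (zpowers s) (pw a (br x a)) * QuotientGroup.mk' (zpowers s) x := by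
  have := pi_eq.2 (h x hx)
  simpa only [map_mul, map_inv] using this

/-- membership in `N` from the action in the quotient -/
theorem mem_N_of_pi (C : Cf N z s) [(zpowers s).Normal] {t : H}
    (h : ∀ x ∈ N, QuotientGroup.mk' (zpowers s) t * QuotientGroup.mk' (zpowers s) x *
      (QuotientGroup.mk' (zpowers s) t)⁻¹ = QuotientGroup.mk' (zpowers s) x) : t ∈ N := by
  refine C.faith t fun x hx => ?_
  rw [← pi_eq]
  have := h x hx
  simpa only [map_mul, map_inv] using this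

/-- **Transvections invert `s`.** -/
theorem Tv_odd [Finite H] (C : Cf N z s) (E : Tri N z s e g1 g2) {t : H} (ht : Tv N s (e 2) t) :
    br t s = 1 := by
  have hzn := C.zs_normal
  have hNn := C.normal
  have f := E.fr
  by_contra hbr
  have hbr0 : br t s = 0 := by
    rcases bit_cases (br t s) with h | h
    · exact h
    · exact absurd h hbr
  -- the element of order 3
  have f' : Fr N (e 1) (g1 * g2) (e 0 * e 1) g1 := by
    refine ⟨f.m3, mul_mem f.m2 f.m4, mul_mem f.m1 f.m3, f.m2, ?_, ?_, ?_, ?_, ?_, ?_⟩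
    · rw [C.brr f.m3 f.m2 f.m4, br_symm (e 1) g1, f.c21, f.b22, zero_add]
    · rw [C.brl f.m1 f.m3 f.m2, f.b11, br_symm (e 1) g1, f.c21, add_zero]
    · rw [C.brr f.m3 f.m1 f.m3, C.bree E, C.bree E, add_zero]
    · rw [br_symm, f.c21]
    · rw [C.brl f.m2 f.m4 (mul_mem f.m1 f.m3), C.brr f.m2 f.m1 f.m3, C.brr f.m4 f.m1 f.m3, C.brg10 E,
        C.brg11 E, C.brg20 E, C.brg21 E]
      rfl
    · rw [C.brl f.m2 f.m4 f.m2, br_self, br_symm g2 g1, f.d12, add_zero]
  obtain ⟨F, F1, -, F3, -⟩ := C.exists_frame f f'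
  obtain ⟨t', ht'⟩ : ∃ t', t' = F * t * F⁻¹ := ⟨_, rfl⟩
  -- `F (e 2) F⁻¹ ≡ e 0`
  have hF2 : F * e 2 * F⁻¹ * (e 0)⁻¹ ∈ zpowers s := by
    have hs1 : QuotientGroup.mk' (zpowers s) s = 1 :=
      (QuotientGroup.eq_one_iff (N := zpowers s) _).2 (mem_zpowers s)
    rw [← pi_eq] at F1 F3 ⊢
    have e3 : QuotientGroup.mk' (zpowers s) (F * e 2 * F⁻¹) =
        (QuotientGroup.mk' (zpowers s) (F * e 0 * F⁻¹) * QuotientGroup.mk' (zpowers s) (F * e 1 * F⁻¹))⁻¹ := by
      rw [C.e2_eq E]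
      simp only [map_mul, map_inv, hs1]
      group
    rw [e3, F1, F3, map_mul]
    have h0 := C.pi_sq f.m1
    have h1 := C.pi_sq f.m3
    have hc := C.pi_comm f.m1 f.m3
    rw [inv_eq_iff_mul_eq_one]
    calc _ = QuotientGroup.mk' (zpowers s) (e 1) * (QuotientGroup.mk' (zpowers s) (e 0) *
          QuotientGroup.mk' (zpowers s) (e 1)) * QuotientGroup.mk' (zpowers s) (e 0) := by group
      _ = (QuotientGroup.mk' (zpowers s) (e 1) * QuotientGroup.mk' (zpowers s) (e 1)) *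
          (QuotientGroup.mk' (zpowers s) (e 0) * QuotientGroup.mk' (zpowers s) (e 0)) := by rw [hc.eq]; group
      _ = 1 := by rw [h0, h1, one_mul]
  have htv' : Tv N s (e 0) t' := by
    rw [ht']; exact C.Tv_congr (C.conjN F (E.m 2)) (C.Tv_conj ht F) hF2
  have hbr' : br t' s = 0 := by
    rw [← C.chi_eq] at hbr0 ⊢
    rw [ht', map_mul, map_mul, hbr0, mul_one, ← map_mul, mul_inv_cancel, map_one]
  let π := QuotientGroup.mk' (zpowers s)
  have hE0 : br (t * t') s = 0 := by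
    rw [← C.chi_eq] at hbr0 hbr' ⊢
    rw [map_mul, hbr0, hbr', one_mul]
  -- the action of `t t'`
  have hact : ∀ x ∈ N, π (t * t') * π x * (π (t * t'))⁻¹ = π (pw (e 0) (br x (e 0)) * pw (e 2) (br x (e 2)) * x) := by
    intro x hx
    have h1 := C.Tv_act htv' hx
    have h2 := C.Tv_act ht (mul_mem (pwN f.m1 (br x (e 0))) hx)
    have hb : br (pw (e 0) (br x (e 0)) * x) (e 2) = br x (e 2) := by
      rw [C.brl (pwN f.m1 _) hx (E.m 2), br_pw_left, C.bree E, mul_zero, zero_add]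
    rw [hb] at h2
    have hc := C.pi_comm (pwN f.m1 (br x (e 0))) (pwN (E.m 2) (br x (e 2)))
    calc π (t * t') * π x * (π (t * t'))⁻¹ = π t * (π t' * π x * (π t')⁻¹) * (π t)⁻¹ := by
          rw [map_mul]; group
      _ = π t * π (pw (e 0) (br x (e 0)) * x) * (π t)⁻¹ := by rw [h1, map_mul]
      _ = π (pw (e 2) (br x (e 2))) * (π (pw (e 0) (br x (e 0))) * π x) := by rw [h2, map_mul]
      _ = π (pw (e 0) (br x (e 0)) * pw (e 2) (br x (e 2)) * x) := by
          rw [map_mul, map_mul, ← mul_assoc, hc.eq]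
  have hsqT : ∀ a, a ∈ N → ∀ r, Tv N s a r → r * r ∈ N := by
    intro a ha r hr
    refine C.mem_N_of_pi fun x hx => ?_
    have h1 := C.Tv_act hr hx
    have h2 := C.Tv_act hr (mul_mem (pwN ha (br x a)) hx)
    have hb : br (pw a (br x a) * x) a = br x a := by
      rw [C.brl (pwN ha _) hx ha, br_pw_left, br_self, mul_zero, zero_add]
    rw [hb] at h2
    calc π (r * r) * π x * (π (r * r))⁻¹ = π r * (π r * π x * (π r)⁻¹) * (π r)⁻¹ := by
          rw [map_mul]; group
      _ = π r * π (pw a (br x a) * x) * (π r)⁻¹ := by rw [h1, map_mul]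
      _ = (π (pw a (br x a)) * π (pw a (br x a))) * π x := by rw [h2, map_mul, ← mul_assoc]
      _ = π x := by rw [C.pi_sq (pwN ha _), one_mul]
  have hsqE : (t * t') * (t * t') ∈ N := by
    refine C.mem_N_of_pi fun x hx => ?_
    have h1 := hact x hx
    have h2 := hact (pw (e 0) (br x (e 0)) * pw (e 2) (br x (e 2)) * x)
      (mul_mem (mul_mem (pwN f.m1 _) (pwN (E.m 2) _)) hx)
    have hb0 : br (pw (e 0) (br x (e 0)) * pw (e 2) (br x (e 2)) * x) (e 0) = br x (e 0) := by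
      rw [C.brl (mul_mem (pwN f.m1 _) (pwN (E.m 2) _)) hx f.m1, C.brl (pwN f.m1 _) (pwN (E.m 2) _) f.m1,
        br_pw_left, br_pw_left, br_self, C.bree E, mul_zero, mul_zero, add_zero, zero_add]
    have hb2 : br (pw (e 0) (br x (e 0)) * pw (e 2) (br x (e 2)) * x) (e 2) = br x (e 2) := by
      rw [C.brl (mul_mem (pwN f.m1 _) (pwN (E.m 2) _)) hx (E.m 2), C.brl (pwN f.m1 _) (pwN (E.m 2) _) (E.m 2),
        br_pw_left, br_pw_left, br_self, C.bree E, mul_zero, mul_zero, add_zero, zero_add]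
    rw [hb0, hb2] at h2
    have hq : (pw (e 0) (br x (e 0)) * pw (e 2) (br x (e 2))) ∈ N := mul_mem (pwN f.m1 _) (pwN (E.m 2) _)
    calc π ((t * t') * (t * t')) * π x * (π ((t * t') * (t * t')))⁻¹
        = π (t * t') * (π (t * t') * π x * (π (t * t'))⁻¹) * (π (t * t'))⁻¹ := by
          rw [map_mul π (t * t') (t * t')]; group
      _ = (π (pw (e 0) (br x (e 0)) * pw (e 2) (br x (e 2))) * π (pw (e 0) (br x (e 0)) * pw (e 2) (br x (e 2)))) *
          π x := by rw [h1, h2]; simp only [map_mul]; group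
      _ = π x := by rw [C.pi_sq hq, one_mul]
  -- nontriviality
  have hpe : ∀ k, br g1 (e k) = 1 ∨ br g2 (e k) = 1 → π (e k) ≠ 1 := by
    intro k hk h
    have hk' : e k ∈ zpowers s := (QuotientGroup.eq_one_iff (N := zpowers s) _).1 h
    rcases hk with hk | hk
    · rw [C.br_zs_right hk' f.m2] at hk; exact zero_ne_one hk
    · rw [C.br_zs_right hk' f.m4] at hk; exact zero_ne_one hk
  have htriv : ∀ r ∈ N, ∀ x ∈ N, π r * π x * (π r)⁻¹ = π x := by
    intro r hr x hx
    rw [(C.pi_comm hr hx).eq, mul_inv_cancel_right]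
  have htN : t ∉ N := by
    intro h
    have h1 := C.Tv_act ht f.m2
    rw [C.brg12 E, pw_one, show QuotientGroup.mk' (zpowers s) t * QuotientGroup.mk' (zpowers s) g1 *
      (QuotientGroup.mk' (zpowers s) t)⁻¹ = π g1 from htriv t h g1 f.m2] at h1
    exact hpe 2 (Or.inl (C.brg12 E)) (by
      have : π (e 2) * π g1 = 1 * π g1 := by rw [one_mul]; exact h1.symm
      exact mul_right_cancel this)
  have hEg1 := hact g1 f.m2
  have hEg2 := hact g2 f.m4
  rw [C.brg10 E, C.brg12 E, pw_one, pw_one] at hEg1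
  rw [C.brg20 E, C.brg22 E, pw_one, pw_zero, one_mul] at hEg2
  have h02 : π (e 0 * e 2) = π (e 1) := by
    have hs1 : π s = 1 := (QuotientGroup.eq_one_iff (N := zpowers s) _).2 (mem_zpowers s)
    have : π (e 0 * e 1 * e 2) = 1 := by rw [E.prod, hs1]
    have hc := C.pi_comm f.m3 (E.m 2)
    have h2 : π (e 0 * e 2) * π (e 1) = 1 := by
      rw [← this, map_mul, map_mul, map_mul, mul_assoc, mul_assoc, ← hc.eq]
    have h3 : π (e 1) * π (e 1) = 1 := C.pi_sq f.m3
    have h4 : π (e 0 * e 2) * π (e 1) = π (e 1) * π (e 1) := by rw [h2, h3]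
    exact mul_right_cancel h4
  have hEN : t * t' ∉ N := by
    intro h
    rw [htriv _ h g2 f.m4, map_mul] at hEg2
    exact hpe 2 (Or.inl (C.brg12 E)) (by
      have : π (e 2) * π g2 = 1 * π g2 := by rw [one_mul]; exact hEg2.symm
      exact mul_right_cancel this)
  -- conjugacy in `S₆`
  obtain ⟨ι⟩ := C.iso
  let q := QuotientGroup.mk' N
  let χ' : Equiv.Perm (Fin 6) →* ℤˣ := (QuotientGroup.lift N C.chi (fun n hn => C.chi_eq.2 (C.br_s hn))).comp
    ι.symm.toMonoidHom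
  have hχ : ∀ h : H, χ' (ι (q h)) = C.chi h := by
    intro h
    show QuotientGroup.lift N C.chi (fun n hn => C.chi_eq.2 (C.br_s hn)) (ι.symm (ι (q h))) = C.chi h
    rw [ι.symm_apply_apply]; rfl
  have hsurj : Function.Surjective χ' := by
    intro y
    rcases Int.units_eq_one_or y with rfl | rfl
    · exact ⟨1, map_one _⟩
    · obtain ⟨h0, hh0⟩ := C.inv
      refine ⟨ι (q h0), ?_⟩
      rw [hχ]
      rcases Int.units_eq_one_or (C.chi h0) with h | h
      · exact absurd (br_eq_zero.1 (C.chi_eq.1 h)) hh0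
      · exact h
  have hsign : χ' = Equiv.Perm.sign := Equiv.Perm.eq_sign_of_surjective_hom hsurj
  have hone : ∀ h : H, ι (q h) = 1 ↔ h ∈ N := by
    intro h
    rw [EmbeddingLike.map_eq_one_iff]
    exact QuotientGroup.eq_one_iff (N := N) h
  have hconj : IsConj (ι (q t)) (ι (q (t * t'))) := by
    refine even_conj ?_ ?_ ?_ ?_ ?_ ?_
    · rw [Ne, hone]; exact htN
    · rw [Ne, hone]; exact hEN
    · rw [← map_mul, ← map_mul, hone]; exact hsqT _ (E.m 2) t ht
    · rw [← map_mul, ← map_mul, hone]; exact hsqE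
    · rw [← hsign, hχ, C.chi_eq]; exact hbr0
    · rw [← hsign, hχ, C.chi_eq]; exact hE0
  obtain ⟨c, hc⟩ := isConj_iff.1 hconj
  obtain ⟨g, hg⟩ : ∃ g : H, ι (q g) = c := by
    obtain ⟨y, hy⟩ := ι.surjective c
    obtain ⟨g, hg⟩ := QuotientGroup.mk'_surjective N y
    exact ⟨g, by rw [hg, hy]⟩
  have hgN : (t * t') * (g * t * g⁻¹)⁻¹ ∈ N := by
    have h1 : ι (q (g * t * g⁻¹)) = c * ι (q t) * c⁻¹ := by
      rw [← hg]; simp only [map_mul, map_inv]
    rw [← hone, map_mul, map_mul, map_inv, map_inv, h1, hc, mul_inv_cancel]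
  have htvE : Tv N s (g * e 2 * g⁻¹) (t * t') := by
    have h1 := C.Tv_N (C.conjN g (E.m 2)) (C.Tv_conj ht g) hgN
    rwa [inv_mul_cancel_right] at h1
  have k1 := C.Tv_act htvE f.m2
  have k2 := C.Tv_act htvE f.m4
  have k1' : π (pw (g * e 2 * g⁻¹) (br g1 (g * e 2 * g⁻¹))) = π (e 1) := by
    have : π (pw (g * e 2 * g⁻¹) (br g1 (g * e 2 * g⁻¹))) * π g1 = π (e 1) * π g1 := by
      rw [← h02, ← map_mul π (e 0 * e 2) g1]
      exact k1.symm.trans hEg1
    exact mul_right_cancel this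
  have k2' : π (pw (g * e 2 * g⁻¹) (br g2 (g * e 2 * g⁻¹))) = π (e 2) := by
    have : π (pw (g * e 2 * g⁻¹) (br g2 (g * e 2 * g⁻¹))) * π g2 = π (e 2) * π g2 := by
      rw [← map_mul π (e 2) g2]
      exact k2.symm.trans hEg2
    exact mul_right_cancel this
  have n1 : π (e 1) ≠ 1 := hpe 1 (Or.inr (C.brg21 E))
  have n2 : π (e 2) ≠ 1 := hpe 2 (Or.inl (C.brg12 E))
  have m1 : π (g * e 2 * g⁻¹) = π (e 1) := by
    rcases bit_cases (br g1 (g * e 2 * g⁻¹)) with h | h
    · rw [h, pw_zero, map_one] at k1'; exact absurd k1'.symm n1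
    · rw [h, pw_one] at k1'; exact k1'
  have m2 : π (g * e 2 * g⁻¹) = π (e 2) := by
    rcases bit_cases (br g2 (g * e 2 * g⁻¹)) with h | h
    · rw [h, pw_zero, map_one] at k2'; exact absurd k2'.symm n2
    · rw [h, pw_one] at k2'; exact k2'
  have m3 : e 1 * (e 2)⁻¹ ∈ zpowers s := pi_eq.1 (m1.symm.trans m2)
  have m4 : br g1 (e 1) = br g1 (e 2) := by
    have : e 1 = (e 1 * (e 2)⁻¹) * e 2 := by group
    conv_lhs => rw [this]
    rw [C.brr f.m2 (C.zs_le m3) (E.m 2), C.br_zs_right m3 f.m2, zero_add]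
  rw [C.brg11 E, C.brg12 E] at m4
  exact zero_ne_one m4

end Cf

end Cfsg.Agent.H336.Co3
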