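import Cfsg.Agent.H336.Co3.Flag

/-!
# Uniqueness of `N` in the flag stabiliser (helper336)
-/

set_option autoImplicit false

open Subgroup

namespace Cfsg.Agent.H336.Co3

variable {H : Type*} [Group H]

namespace Cf

variable {N : Subgroup H} {z s : H} {e : Fin 3 → H} {g1 g2 : H}

theorem N_sq (C : Cf N z s) {n : H} (hn : n ∈ N) : ∃ c, n * n = zp z c := by
  rcases C.sq n hn with h | h
  · exact ⟨0, by rw [zp_zero, h]⟩
  · exact ⟨1, by rw [zp_one, h]⟩

/-- `y = n j` with `y² ∈ ⟨z⟩` forces `j_k n_k = 0` -/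
theorem dec_sq [Finite H] (C : Cf N z s) (E : Tri N z s e g1 g2) {y n j : H} (hn : n ∈ N) (hj : JJ N z e j)
    (hy : y = n * j) (h2 : ∃ c, y * y = zp z c) : ∀ k, br j (e k) * br n (e k) = 0 := by
  obtain ⟨c, hc⟩ := h2
  obtain ⟨b, hb⟩ := C.J_sq_z E hj
  obtain ⟨a, ha⟩ := hj.2 n hn
  obtain ⟨d, hd⟩ := C.N_sq hn
  set A : Fin 3 → ZMod 2 := fun k => br j (e k) * br n (e k) with hA
  have hPn := (C.sg hn (C.P3N E A)).eq C.z_ne
  set q := br n (P3 e A) with hq
  have h1 : zp z c = zp z (a + q + d + b) * P3 e A := by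
    calc zp z c = n * (j * n * j⁻¹) * (j * j) := by rw [← hc, hy]; group
      _ = (n * zp z a) * P3 e A * n * zp z b := by rw [ha, hb]; group
      _ = zp z a * (n * P3 e A) * n * zp z b := by rw [C.zpc a n]; group
      _ = zp z a * (zp z q * (P3 e A * n)) * n * zp z b := by rw [hPn]
      _ = zp z a * zp z q * (P3 e A * (n * n)) * zp z b := by group
      _ = zp z a * zp z q * (zp z d * P3 e A) * zp z b := by rw [hd, C.zpc d]
      _ = zp z a * zp z q * zp z d * (P3 e A * zp z b) := by group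
      _ = zp z (a + q + d + b) * P3 e A := by
          rw [C.zpc b, ← mul_assoc, C.zpa, C.zpa, C.zpa]
  have h3 : P3 e A = zp z (a + q + d + b + c) := by
    have h4 : zp z (a + q + d + b) * zp z c = P3 e A := by
      rw [h1, ← mul_assoc, C.zpa, zmod_add_self, zp_zero, one_mul]
    rw [← h4, C.zpa]
  exact C.P3_ind E h3

theorem dec_pair [Finite H] (C : Cf N z s) (E : Tri N z s e g1 g2) {y n j y' n' j' : H} (hn : n ∈ N)
    (hj : JJ N z e j) (hy : y = n * j) (hn' : n' ∈ N) (hj' : JJ N z e j') (hy' : y' = n' * j')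
    (h2 : ∃ c, (y * y') * (y * y') = zp z c) :
    ∀ k, (br j (e k) + br j' (e k)) * (br n (e k) + br n' (e k)) = 0 := by
  have h := C.dec_sq E (y := y * y') (n := n * (j * n' * j⁻¹)) (j := j * j')
    (mul_mem hn (C.conjN j hn')) (C.J_mul E hj hj') (by rw [hy, hy']; group) h2
  intro k
  have h1 := h k
  rw [br_mul_left C.z_cen C.z_sq C.z_ne (hj.1 k) (hj'.1 k), C.brl hn (C.conjN j hn') (E.m k)] at h1
  have h3 : br (j * n' * j⁻¹) (e k) = br n' (e k) := by
    obtain ⟨c, hc⟩ := C.sg_iff.1 (hj.1 k)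
    rw [← br_conj j n' (e k), hc, C.br_zp_any]
  rwa [h3] at h1

theorem sg_of_sq (C : Cf N z s) {a b : H} (ha : ∃ c, a * a = zp z c) (hb : ∃ c, b * b = zp z c)
    (hab : ∃ c, (a * b) * (a * b) = zp z c) : Sg z a b := by
  obtain ⟨c1, h1⟩ := ha
  obtain ⟨c2, h2⟩ := hb
  obtain ⟨c3, h3⟩ := hab
  have h4 : a * b = zp z (c1 + c2 + c3) * (b * a) := by
    have h5 : a * (a * b * (a * b)) * b = a * zp z c3 * b := by rw [h3]
    have h6 : a * (a * b * (a * b)) * b = zp z (c1 + c2) * (b * a) := by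
      calc a * (a * b * (a * b)) * b = (a * a) * (b * a) * (b * b) := by group
        _ = zp z c1 * ((b * a) * zp z c2) := by rw [h1, h2]; group
        _ = _ := by rw [C.zpc c2, ← mul_assoc, C.zpa]
    have h7 : a * zp z c3 * b = zp z c3 * (a * b) := by rw [C.zpc c3 a]; group
    rw [h6, h7] at h5
    calc a * b = zp z c3 * (zp z c3 * (a * b)) := by
          rw [← mul_assoc, C.zpa, zmod_add_self, zp_zero, one_mul]
      _ = _ := by rw [← h5, ← mul_assoc, C.zpa]; congr 2; ring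
  rcases bit_cases (c1 + c2 + c3) with h | h
  · left; rw [h4, h, zp_zero, one_mul]
  · right; rw [h4, h, zp_one]

theorem fin3_zero_one {f : Fin 3 → ZMod 2} {k0 k1 : Fin 3} (hs : f 0 + f 1 + f 2 = 0) (h0 : f k0 = 0)
    (h1 : f k1 = 1) : ∀ k, k ≠ k0 → f k = 1 := by
  obtain ⟨a, ha⟩ : ∃ a, a = f 0 := ⟨_, rfl⟩
  obtain ⟨b, hb⟩ : ∃ b, b = f 1 := ⟨_, rfl⟩
  obtain ⟨c, hc⟩ : ∃ c, c = f 2 := ⟨_, rfl⟩
  have hf : f = ![a, b, c] := by
    funext k; fin_cases k
    · exact ha.symm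
    · exact hb.symm
    · exact hc.symm
  rw [hf] at hs h0 h1 ⊢
  clear ha hb hc hf
  revert a b c k0 k1
  decide

/-- **Uniqueness of `N`.** -/
theorem uniq [Finite H] (C : Cf N z s) (E : Tri N z s e g1 g2) {N1 : Subgroup H} (hle : N1 ≤ C.FG e)
    (hcard : Nat.card N1 = 64) (hsq : ∀ y ∈ N1, ∃ c, y * y = zp z c) (hcm : ∀ y ∈ N1, ∀ y' ∈ N1, Sg z y y')
    (hnorm : ∀ t ∈ C.FG e, ∀ y ∈ N1, t * y * t⁻¹ ∈ N1)
    (hself : ∀ t ∈ C.FG e, (∀ y ∈ N1, Sg z t y) → t ∈ N1)
    {s1 : H} (hs1 : s1 ∈ N1) (hs2 : s1 * s1 = z) (hs3 : ∀ y ∈ N1, y * s1 = s1 * y)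
    (hs4 : ∀ t ∈ C.FG e, Sg z t s1) : N1 = N := by
  have f := E.fr
  have hzp : ∀ c, zp z c ∈ N1 := by
    intro c
    rcases bit_cases c with rfl | rfl
    · rw [zp_zero]; exact one_mem _
    · rw [zp_one, ← hs2]; exact mul_mem hs1 hs1
  have hNF := C.N_le_FG E
  have hJF : ∀ {j}, JJ N z e j → j ∈ C.FG e := fun hj => C.J_le_FG hj
  -- Step 1
  have step1 : ∀ y ∈ N1, ∀ k, Sg z y (e k) := by
    intro y hy
    rw [← C.fx_iff]
    rcases hle hy with h | h
    · exact h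
    · exfalso
      have hn1 : g1 * y * g1⁻¹ * y⁻¹ ∈ N1 := mul_mem (hnorm g1 (hNF f.m2) y hy) (inv_mem hy)
      have hn2 : g1 * y * g1⁻¹ * y⁻¹ = g1 * (y * g1⁻¹ * y⁻¹) := by group
      have hn3 : g1 * (y * g1⁻¹ * y⁻¹) ∈ N := mul_mem f.m2 (C.conjN y (inv_mem f.m2))
      rw [hn2] at hn1
      obtain ⟨n, hn⟩ : ∃ n, n = g1 * (y * g1⁻¹ * y⁻¹) := ⟨_, rfl⟩
      have hb : br n (e 0) = 1 := by
        obtain ⟨c, hc⟩ := h 1
        have hc' : y * e 1 * y⁻¹ = zp z c * e 0 := hc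
        have h1 : br (y * g1⁻¹ * y⁻¹) (e 0) = 0 := by
          rw [← C.br_zp_any c, ← hc', br_conj, br_inv_left C.z_cen C.z_sq C.z_ne (C.sg f.m2 f.m3)]
          exact f.c21
        rw [hn, C.brl f.m2 (C.conjN y (inv_mem f.m2)) f.m1, h1, C.brg10 E, add_zero]
      rw [← hn] at hn1 hn3
      obtain ⟨d, hd, hdb⟩ := C.exists_J E ![1, 0, 0]
      have d0 : br d (e 0) = 1 := hdb 0
      have d1 : br d (e 1) = 0 := hdb 1
      have d2 : br d (e 2) = 0 := hdb 2
      obtain ⟨c, hc⟩ := hd.2 n hn3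
      have hP : P3 e (fun k => br d (e k) * br n (e k)) = e 0 := by
        unfold P3
        simp only
        rw [d0, d1, d2, hb, zero_mul, zero_mul, one_mul, pw_one, pw_zero, pw_zero, mul_one, mul_one]
      rw [hP] at hc
      have h5 : e 0 ∈ N1 := by
        have h6 : d * n * d⁻¹ * n⁻¹ ∈ N1 := mul_mem (hnorm d (hJF hd) n hn1) (inv_mem hn1)
        have h7 : d * n * d⁻¹ * n⁻¹ = zp z c * e 0 := by rw [hc, mul_inv_cancel_right]
        rw [h7] at h6
        have h8 : e 0 = zp z c * (zp z c * e 0) := by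
          rw [← mul_assoc, C.zpa, zmod_add_self, zp_zero, one_mul]
        rw [h8]; exact mul_mem (hzp c) h6
      obtain ⟨c1, h9⟩ := C.sg_iff.1 (hcm y hy (e 0) h5)
      obtain ⟨c2, h10⟩ := h 0
      have h10' : y * e 0 * y⁻¹ = zp z c2 * e 1 := h10
      have h11 : br g1 (zp z c1 * e 0) = br g1 (zp z c2 * e 1) := by rw [← h9, ← h10']
      rw [C.br_zp_any, C.br_zp_any, C.brg10 E, C.brg11 E] at h11
      exact one_ne_zero h11
  -- decompositions
  have hdec : ∀ y ∈ N1, ∃ n ∈ N, ∃ j, JJ N z e j ∧ y = n * j := fun y hy => C.CJ E (step1 y hy)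
  have hA1 : ∀ y ∈ N1, ∀ n ∈ N, ∀ j, JJ N z e j → y = n * j → ∀ k, br j (e k) * br n (e k) = 0 :=
    fun y hy n hn j hj h => C.dec_sq E hn hj h (hsq y hy)
  have hA2 : ∀ y ∈ N1, ∀ n ∈ N, ∀ j, JJ N z e j → y = n * j → ∀ y' ∈ N1, ∀ n' ∈ N, ∀ j', JJ N z e j' →
      y' = n' * j' → ∀ k, (br j (e k) + br j' (e k)) * (br n (e k) + br n' (e k)) = 0 :=
    fun y hy n hn j hj h y' hy' n' hn' j' hj' h' => C.dec_pair E hn hj h hn' hj' h' (hsq _ (mul_mem hy hy'))
  by_contra hne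
  have hA : ¬ ∀ y ∈ N1, ∀ n ∈ N, ∀ j, JJ N z e j → y = n * j → ∀ k, br j (e k) = 0 := by
    intro hA
    apply hne
    have hle' : N1 ≤ N := by
      intro y hy
      obtain ⟨n, hn, j, hj, h⟩ := hdec y hy
      rw [h]
      exact mul_mem hn (C.J_zero hj (hA y hy n hn j hj h))
    exact Subgroup.eq_of_le_of_card_ge hle' (by rw [hcard, C.card])
  push Not at hA
  obtain ⟨y0, hy0, n0, hn0, j0, hj0, hyn0, k0, hk0⟩ := hA
  have hk0' : br j0 (e k0) = 1 := by
    rcases bit_cases (br j0 (e k0)) with h | h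
    · exact absurd h hk0
    · exact h
  have claim : ∃ t ∈ N1, br t s = 1 ∧ br t (e 2) = 1 := by
    by_cases hB : ∀ y ∈ N1, ∀ n ∈ N, ∀ j, JJ N z e j → y = n * j → ∀ k, br n (e k) = 0
    · obtain ⟨d, hd, hdb⟩ := C.exists_J E ![0, 0, 1]
      have d0 : br d (e 0) = 0 := hdb 0
      have d1 : br d (e 1) = 0 := hdb 1
      have d2 : br d (e 2) = 1 := hdb 2
      refine ⟨d, hself d (hJF hd) fun y hy => ?_, ?_, d2⟩
      · obtain ⟨n, hn, j, hj, h⟩ := hdec y hy
        have hyJ : JJ N z e y := by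
          rw [h]; exact C.J_mul E (C.N_J E hn (hB y hy n hn j hj h)) hj
        exact C.sg_of_sq (C.J_sq_z E hd) (C.J_sq_z E hyJ) (C.J_sq_z E (C.J_mul E hd hyJ))
      · rw [← C.sum_br E hd.1, d0, d1, d2]; rfl
    · push Not at hB
      obtain ⟨y1, hy1, n1, hn1, j1, hj1, hyn1, k1, hk1⟩ := hB
      have hk1' : br n1 (e k1) = 1 := by
        rcases bit_cases (br n1 (e k1)) with h | h
        · exact absurd h hk1
        · exact h
      have hzero : ∀ y ∈ N1, ∀ n ∈ N, ∀ j, JJ N z e j → y = n * j → ∀ k, br n1 (e k) = 1 → br j (e k) = 0 := by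
        intro y hy n hn j hj h k hk
        have a1 := hA1 y1 hy1 n1 hn1 j1 hj1 hyn1 k
        have a2 := hA1 y hy n hn j hj h k
        have a3 := hA2 y hy n hn j hj h y1 hy1 n1 hn1 j1 hj1 hyn1 k
        rw [hk] at a1 a3
        revert a1 a2 a3
        generalize br j1 (e k) = p; generalize br j (e k) = q; generalize br n (e k) = r
        revert p q r; decide
      have hn1k0 : br n1 (e k0) = 0 := by
        rcases bit_cases (br n1 (e k0)) with h | h
        · exact h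
        · rw [hzero y0 hy0 n0 hn0 j0 hj0 hyn0 k0 h] at hk0'
          exact absurd hk0' zero_ne_one
      have hall := fin3_zero_one (f := fun k => br n1 (e k)) (C.sum_brN E hn1) hn1k0 hk1'
      have hzero' : ∀ y ∈ N1, ∀ n ∈ N, ∀ j, JJ N z e j → y = n * j → ∀ k, k ≠ k0 → br j (e k) = 0 :=
        fun y hy n hn j hj h k hk => hzero y hy n hn j hj h k (hall k hk)
      have hz0 := hzero' y0 hy0 n0 hn0 j0 hj0 hyn0
      have hk02 : k0 = 2 := by
        by_contra hk2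
        obtain ⟨F, hF⟩ := C.exists_S E
        have hFm : F ∈ C.FG e := Or.inr hF
        have hss : ∀ k, ∃ j, swp j = k := by decide
        obtain ⟨hJ', hb'⟩ := C.J_conj hss (C.P3_swp E) hF hj0
        have h1 := hzero' (F * y0 * F⁻¹) (hnorm F hFm y0 hy0) (F * n0 * F⁻¹) (C.conjN F hn0) (F * j0 * F⁻¹) hJ'
          (by rw [hyn0]; group) (swp k0) (by revert hk2; clear * -; revert k0; decide)
        rw [hb' k0, hk0'] at h1
        exact one_ne_zero h1
      subst hk02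
      have j00 : br j0 (e 0) = 0 := hz0 0 (by decide)
      have j01 : br j0 (e 1) = 0 := hz0 1 (by decide)
      refine ⟨y0, hy0, ?_, ?_⟩
      · rw [hyn0, br_mul_left C.z_cen C.z_sq C.z_ne (C.sg_s n0) (C.sg_s j0), C.br_s hn0,
          ← C.sum_br E hj0.1, j00, j01, hk0']
        rfl
      · have h1 := hA1 y0 hy0 n0 hn0 j0 hj0 hyn0 2
        rw [hk0', one_mul] at h1
        rw [hyn0, br_mul_left C.z_cen C.z_sq C.z_ne (C.sg hn0 (E.m 2)) (hj0.1 2), h1, hk0', zero_add]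
  obtain ⟨t, ht, hts, hte⟩ := claim
  -- classification of `s1`
  have hs1N : s1 ∈ N := by
    refine C.faith s1 fun n hn => ?_
    obtain ⟨c, hc⟩ := C.sg_iff.1 ((hs4 n (hNF hn)).symm C.z_sq)
    rw [hc, mul_inv_cancel_right]
    exact C.zp_zs c
  have hs1e : ∀ k, br s1 (e k) = 0 := by
    obtain ⟨d, hd, hdb⟩ := C.exists_J E (fun k => br s1 (e k))
    obtain ⟨c, hc⟩ := hd.2 s1 hs1N
    obtain ⟨c', hc'⟩ := C.sg_iff.1 (hs4 d (hJF hd))
    rw [hc'] at hc
    have h1 : P3 e (fun k => br d (e k) * br s1 (e k)) = zp z (c + c') := by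
      have h2 : zp z c' = zp z c * P3 e (fun k => br d (e k) * br s1 (e k)) := mul_right_cancel hc
      rw [← C.zpa, h2, ← mul_assoc, C.zpa, zmod_add_self, zp_zero, one_mul]
    intro k
    have h3 := C.P3_ind E h1 k
    simp only [hdb] at h3
    revert h3; generalize br s1 (e k) = x; revert x; decide
  have hzn := C.zs_normal
  let π := QuotientGroup.mk' (zpowers s)
  obtain ⟨u, hu, hu'⟩ := C.cover f hs1N
  have hπ : π s1 = π (pw (e 0) (br s1 g1)) * π (pw (e 1) (br s1 g2)) := by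
    have h1 : π u = 1 := (QuotientGroup.eq_one_iff (N := zpowers s) _).2 hu
    have h2 : s1 = u * (pw (e 0) (br s1 g1) * pw (e 1) (br s1 g2)) := by
      conv_lhs => rw [hu']
      unfold wd kap
      simp only
      rw [hs1e 0, hs1e 1, pw_zero, pw_zero, mul_one, mul_one]
    conv_lhs => rw [h2]
    rw [map_mul, map_mul, h1, one_mul]
  have hab : br s1 g1 = br s1 g2 := by
    obtain ⟨F, hF⟩ := C.exists_S E
    have hFm : F ∈ C.FG e := Or.inr hF
    obtain ⟨c, hc⟩ := C.sg_iff.1 (hs4 F hFm)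
    have hpw : ∀ k c, π (F * pw (e k) c * F⁻¹) = π (pw (e (swp k)) c) := by
      intro k c
      rcases bit_cases c with rfl | rfl
      · rw [pw_zero, pw_zero]; congr 1; group
      · obtain ⟨a, ha⟩ := hF k
        rw [pw_one, pw_one, ha, map_mul]
        have : π (zp z a) = 1 := (QuotientGroup.eq_one_iff (N := zpowers s) _).2 (C.zp_zs a)
        rw [this, one_mul]
    have h1 : π (F * s1 * F⁻¹) = π s1 := by
      rw [hc, map_mul]
      have : π (zp z c) = 1 := (QuotientGroup.eq_one_iff (N := zpowers s) _).2 (C.zp_zs c)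
      rw [this, one_mul]
    have h2 : π (F * s1 * F⁻¹) = π (pw (e 1) (br s1 g1)) * π (pw (e 0) (br s1 g2)) := by
      have h3 := hpw 0 (br s1 g1)
      have h4 := hpw 1 (br s1 g2)
      calc π (F * s1 * F⁻¹) = π F * π s1 * (π F)⁻¹ := by simp only [map_mul, map_inv]
        _ = (π F * π (pw (e 0) (br s1 g1)) * (π F)⁻¹) * (π F * π (pw (e 1) (br s1 g2)) * (π F)⁻¹) := by
            rw [hπ]; group
        _ = π (F * pw (e 0) (br s1 g1) * F⁻¹) * π (F * pw (e 1) (br s1 g2) * F⁻¹) := by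
            simp only [map_mul, map_inv]
        _ = π (pw (e (swp 0)) (br s1 g1)) * π (pw (e (swp 1)) (br s1 g2)) := by rw [h3, h4]
        _ = _ := rfl
    have h5 : π (pw (e 1) (br s1 g1) * pw (e 0) (br s1 g2)) = π (pw (e 0) (br s1 g1) * pw (e 1) (br s1 g2)) := by
      rw [map_mul, map_mul, ← h2, h1, hπ]
    have h6 := pi_eq.1 h5
    have hN1 : pw (e 1) (br s1 g1) * pw (e 0) (br s1 g2) ∈ N := mul_mem (pwN f.m3 _) (pwN f.m1 _)
    have hN2 : pw (e 0) (br s1 g1) * pw (e 1) (br s1 g2) ∈ N := mul_mem (pwN f.m1 _) (pwN f.m3 _)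
    have h7 := congrArg Prod.fst ((C.kap_eq_iff f hN1 hN2).2 h6)
    unfold kap at h7
    simp only at h7
    rw [C.brl (pwN f.m3 _) (pwN f.m1 _) f.m2, C.brl (pwN f.m1 _) (pwN f.m3 _) f.m2, br_pw_left, br_pw_left,
      br_pw_left, br_pw_left, f.b11, br_symm (e 1) g1, f.c21] at h7
    revert h7
    generalize br s1 g1 = x; generalize br s1 g2 = y
    revert x y; decide
  have hcom : br t s1 = 0 := br_eq_zero.2 (hs3 t ht)
  rw [← hab] at hπ
  rcases bit_cases (br s1 g1) with h | h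
  · -- `s1 ∈ ⟨s⟩`
    rw [h, pw_zero, pw_zero, map_one, one_mul] at hπ
    have h1 : s1 ∈ zpowers s := (QuotientGroup.eq_one_iff (N := zpowers s) _).1 hπ
    have h2 : br t s1 = br t s := by
      rcases C.mem_zs.1 h1 with h3 | h3 | h3 | h3
      · exfalso; rw [h3, mul_one] at hs2; exact C.z_ne hs2.symm
      · rw [h3]
      · exfalso; rw [h3, C.z_sq] at hs2; exact C.z_ne hs2.symm
      · rw [h3]
        have := C.br_zp_any 1 t s
        rwa [zp_one] at this
    rw [hcom, hts] at h2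
    exact zero_ne_one h2
  · rw [h, pw_one, pw_one] at hπ
    have h1 : s1 * (e 2)⁻¹ ∈ zpowers s := by
      rw [← pi_eq, C.pi_e2 E]; exact hπ
    obtain ⟨c, hc⟩ := C.mod_z (E.m 2) hs2 (E.sq 2) h1
    rw [hc, C.br_zp_any, hte] at hcom
    exact one_ne_zero hcom

end Cf

end Cfsg.Agent.H336.Co3
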